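import Mathlib
import Cfsg.Prelude.Def_Solvable
import Cfsg.Agent.H550.Kegel
import Cfsg.Agent.Lib.NormalAbelian

/-!
# Invariant partitions of finite groups: basic facts

`IsPart S`: `S` is a set of nontrivial proper subgroups, invariant under conjugation, such that each
nontrivial element lies in exactly one of them.
-/

set_option autoImplicit false

namespace Cfsg.Agent.H550.Part

open Subgroup

universe u

/-- an invariant nontrivial partition. -/
structure IsPart {G : Type u} [Group G] (S : Set (Subgroup G)) : Prop where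
  ne_bot : ∀ H ∈ S, H ≠ ⊥
  cover : ∀ g : G, g ≠ 1 → ∃ H ∈ S, g ∈ H
  eq_of_mem : ∀ H ∈ S, ∀ K ∈ S, ∀ g : G, g ≠ 1 → g ∈ H → g ∈ K → H = K
  conj : ∀ H ∈ S, ∀ g : G, H.map (MulAut.conj g).toMonoidHom ∈ S
  top : ⊤ ∉ S

variable {G : Type u} [Group G] {S : Set (Subgroup G)}

theorem mul_pow_mem {X : Subgroup G} {g x : G} (hg : g ∈ normalizer (X : Set G)) (hx : x ∈ X)
    (n : ℕ) : (x * g) ^ n * (g ^ n)⁻¹ ∈ X := by
  induction n with
  | zero => simp
  | succ n ih =>
    have h1 : (x * g) ^ (n + 1) * (g ^ (n + 1))⁻¹ =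
        ((x * g) ^ n * (g ^ n)⁻¹) * (g ^ n * x * (g ^ n)⁻¹) := by
      rw [pow_succ, pow_succ]
      group
    rw [h1]
    refine mul_mem ih ?_
    exact (mem_normalizer_iff.1 (pow_mem hg n) x).1 hx

theorem IsPart.mem_of_pow (hS : IsPart S) {X : Subgroup G} (hX : X ∈ S) {y : G} {n : ℕ}
    (hy : y ^ n ∈ X) (hy1 : y ^ n ≠ 1) : y ∈ X := by
  have hy0 : y ≠ 1 := by
    rintro rfl
    exact hy1 (one_pow n)
  obtain ⟨Y, hY, hyY⟩ := hS.cover y hy0
  rw [hS.eq_of_mem X hX Y hY (y ^ n) hy1 hy (pow_mem hyY n)]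
  exact hyY

theorem IsPart.pow_eq_one (hS : IsPart S) {X : Subgroup G} (hX : X ∈ S) {y : G} {n : ℕ}
    (hyX : y ∉ X) (hy : y ^ n ∈ X) : y ^ n = 1 := by
  by_contra h
  exact hyX (hS.mem_of_pow hX hy h)

theorem IsPart.mem_normalizer (hS : IsPart S) {X : Subgroup G} (hX : X ∈ S) {x g : G}
    (hx : x ∈ X) (hx1 : x ≠ 1) (hg : g * x * g⁻¹ ∈ X) : g ∈ normalizer (X : Set G) := by
  rw [mem_normalizer_iff_map_conj_eq]
  refine hS.eq_of_mem _ (hS.conj X hX g) X hX (g * x * g⁻¹) ?_ ⟨x, hx, rfl⟩ hg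
  intro h
  apply hx1
  exact conj_eq_one_iff.1 h

theorem IsPart.mem_normalizer_of_commute (hS : IsPart S) {X : Subgroup G} (hX : X ∈ S) {x g : G}
    (hx : x ∈ X) (hx1 : x ≠ 1) (hg : g * x = x * g) : g ∈ normalizer (X : Set G) := by
  refine hS.mem_normalizer hX hx hx1 ?_
  rw [hg, mul_inv_cancel_right]
  exact hx

/-- The basic lemma of Baer. -/
theorem IsPart.prime_of_commute [Finite G] (hS : IsPart S) {X : Subgroup G} (hX : X ∈ S)
    {x y : G} (hx : x ∈ X) (hx1 : x ≠ 1) (hy : y ∉ X) (hxy : x * y = y * x) :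
    (orderOf x).Prime ∧ orderOf y = orderOf x := by
  have hc : Commute x y := hxy
  have hy1 : y ≠ 1 := by
    rintro rfl
    exact hy (one_mem X)
  -- general: commuting elements of different components have equal order
  have key : ∀ (A B : Subgroup G), A ∈ S → B ∈ S → ∀ a b : G, a ∈ A → a ≠ 1 → b ∈ B → b ∉ A →
      Commute a b → b ^ orderOf a = 1 := by
    intro A B hA hB a b ha ha1 hb hbA hab
    by_contra hne
    have h1 : (a * b) ^ orderOf a = b ^ orderOf a := by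
      rw [hab.mul_pow, pow_orderOf_eq_one, one_mul]
    have h2 : a * b ∈ B := by
      refine hS.mem_of_pow hB (n := orderOf a) ?_ ?_
      · rw [h1]; exact pow_mem hb _
      · rw [h1]; exact hne
    have h3 : a ∈ B := (mul_mem_cancel_right hb).1 h2
    have h4 := hS.eq_of_mem A hA B hB a ha1 ha h3
    exact hbA (h4 ▸ hb)
  obtain ⟨Y, hY, hyY⟩ := hS.cover y hy1
  have hxY : ∀ x' ∈ X, x' ≠ 1 → x' ∉ Y := by
    intro x' hx' hx1' h
    have h4 := hS.eq_of_mem X hX Y hY x' hx1' hx' h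
    exact hy (h4 ▸ hyY)
  have heq : ∀ x' ∈ X, x' ≠ 1 → Commute x' y → orderOf x' = orderOf y := by
    intro x' hx' hx1' hc'
    apply Nat.dvd_antisymm
    · exact orderOf_dvd_of_pow_eq_one (key Y X hY hX y x' hyY hy1 hx' (hxY x' hx' hx1') hc'.symm)
    · exact orderOf_dvd_of_pow_eq_one (key X Y hX hY x' y hx' hx1' hyY hy hc')
  have h1 := heq x hx hx1 hc
  refine ⟨?_, h1.symm⟩
  have hne1 : orderOf x ≠ 1 := fun h => hx1 (orderOf_eq_one_iff.1 h)
  obtain ⟨p, hp, hpd⟩ := Nat.exists_prime_and_dvd hne1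
  obtain ⟨k, hk⟩ := hpd
  have hk0 : k ≠ 0 := by
    rintro rfl
    rw [mul_zero] at hk
    exact (orderOf_pos x).ne' hk
  by_cases hxp : x ^ p = 1
  · have h3 := orderOf_dvd_of_pow_eq_one hxp
    rcases (Nat.dvd_prime hp).1 h3 with h4 | h4
    · exact absurd h4 hne1
    · rw [h4]; exact hp
  · exfalso
    have h3 := heq (x ^ p) (pow_mem hx p) hxp (hc.pow_left p)
    rw [← h1, orderOf_pow_of_dvd hp.ne_zero ⟨k, hk⟩, hk,
      Nat.mul_div_cancel_left _ hp.pos] at h3
    have h4 := hp.two_le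
    nlinarith [Nat.pos_of_ne_zero hk0]

theorem IsPart.mem_of_commute [Finite G] (hS : IsPart S) {X : Subgroup G} (hX : X ∈ S)
    {x y : G} (hx : x ∈ X) (hx1 : x ≠ 1) (hxy : x * y = y * x) (hne : orderOf y ≠ orderOf x) :
    y ∈ X := by
  by_contra hy
  exact hne (hS.prime_of_commute hX hx hx1 hy hxy).2

/-- an element of prime order modulo `X`. -/
theorem exists_prime_pow_mem [Finite G] {X : Subgroup G} {g : G}
    (hg : g ∈ normalizer (X : Set G)) (hgX : g ∉ X) :
    ∃ h ∈ normalizer (X : Set G), h ∉ X ∧ ∃ t : ℕ, t.Prime ∧ h ^ t ∈ X := by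
  classical
  have hex : ∃ n : ℕ, 0 < n ∧ g ^ n ∈ X :=
    ⟨orderOf g, orderOf_pos g, by rw [pow_orderOf_eq_one]; exact one_mem X⟩
  obtain ⟨hn0, hnX⟩ := Nat.find_spec hex
  set n := Nat.find hex with hn
  have hn1 : n ≠ 1 := by
    intro h
    rw [h, pow_one] at hnX
    exact hgX hnX
  obtain ⟨p, hp, k, hk⟩ := Nat.exists_prime_and_dvd hn1
  refine ⟨g ^ k, pow_mem hg k, ?_, p, hp, ?_⟩
  · intro h
    have hk0 : 0 < k := by
      rcases Nat.eq_zero_or_pos k with h0 | h0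
      · rw [h0, mul_zero] at hk; omega
      · exact h0
    have h1 := Nat.find_min' hex ⟨hk0, h⟩
    have h2 := hp.two_le
    rw [← hn, hk] at h1
    nlinarith
  · rw [← pow_mul, mul_comm k p, ← hk]
    exact hnX

theorem IsPart.coset_pow (hS : IsPart S) {X : Subgroup G} (hX : X ∈ S) {g : G} {t : ℕ}
    (hg : g ∈ normalizer (X : Set G)) (hgX : g ∉ X) (hgt : g ^ t ∈ X) :
    ∀ x ∈ X, (x * g) ^ t = 1 := by
  intro x hx
  apply hS.pow_eq_one hX
  · intro h
    exact hgX ((mul_mem_cancel_left hx).1 h)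
  · have h1 := mul_mem (mul_pow_mem hg hx t) hgt
    rwa [inv_mul_cancel_right] at h1

/-- Components that are not self-normalizing are nilpotent. -/
theorem IsPart.isNilpotent [Finite G] (hS : IsPart S) {X : Subgroup G} (hX : X ∈ S)
    (h : ¬ normalizer (X : Set G) ≤ X) : Group.IsNilpotent X := by
  obtain ⟨g, hg, hgX⟩ := SetLike.not_le_iff_exists.1 h
  obtain ⟨k, hk, hkX, t, ht, hkt⟩ := exists_prime_pow_mem hg hgX
  exact Kegel.isNilpotent_of_coset ht _ G X k rfl hk (hS.coset_pow hX hk hkX hkt)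

theorem IsPart.isFrobeniusComplement (hS : IsPart S) {X : Subgroup G} (hX : X ∈ S)
    (h : normalizer (X : Set G) ≤ X) : IsFrobeniusComplement X := by
  refine ⟨hS.ne_bot X hX, ?_, ?_⟩
  · rintro rfl
    exact hS.top hX
  · intro g hg
    rw [eq_bot_iff]
    intro x hx
    rw [mem_bot]
    by_contra hx1
    obtain ⟨hx2, y, hy, hyx⟩ := hx
    have hyx' : g * y * g⁻¹ = x := hyx
    apply hg
    apply h
    refine hS.mem_normalizer hX (x := y) hy ?_ (by rw [hyx']; exact hx2)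
    rintro rfl
    apply hx1
    rw [← hyx']
    group

/-- Nontrivial normal subgroups of nilpotent groups contain nontrivial central elements. -/
theorem exists_central {U A : Subgroup G} (hU : Group.IsNilpotent U) (hAU : A ≤ U)
    (hn : U ≤ normalizer (A : Set G)) (hA : A ≠ ⊥) : ∃ a ∈ A, a ≠ 1 ∧ ∀ u ∈ U, u * a = a * u := by
  have h1 : (A.subgroupOf U).Normal := normal_subgroupOf_of_le_normalizer hn
  have h2 : A.subgroupOf U ≠ ⊥ := by
    rw [Ne, subgroupOf_eq_bot]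
    intro h
    exact hA (disjoint_self.1 (h.mono_right hAU))
  have h3 := Cfsg.Agent.Lib.NormalAbelian.normal_inf_center_ne_bot (A.subgroupOf U) h2
  obtain ⟨a, ha1⟩ := (Subgroup.ne_bot_iff_exists_ne_one).1 h3
  refine ⟨((a : U) : G), a.2.1, ?_, ?_⟩
  · intro h
    exact ha1 (Subtype.ext (Subtype.ext h))
  · intro u hu
    exact congrArg Subtype.val (mem_center_iff.1 a.2.2 ⟨u, hu⟩)

end Cfsg.Agent.H550.Part
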