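import Mathlib
import Cfsg.Agent.H550.Part.Basic
import Cfsg.Agent.Lib.NilpotentCoprime

/-!
# The alternating group of degree seven has no invariant nilpotent partition
-/

set_option autoImplicit false

namespace Cfsg.Agent.H550.Part

open Subgroup Equiv

universe u

variable {G : Type u} [Group G] {S : Set (Subgroup G)}

/-- `(0 1)(2 3)` -/
def a7t : alternatingGroup (Fin 7) :=
  ⟨swap 0 1 * swap 2 3, by
    rw [Perm.mem_alternatingGroup, Perm.sign_mul, Perm.sign_swap (by decide),
      Perm.sign_swap (by decide)]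
    rfl⟩

/-- `(4 5 6)` -/
def a7c : alternatingGroup (Fin 7) :=
  ⟨swap 4 5 * swap 5 6, by
    rw [Perm.mem_alternatingGroup, Perm.sign_mul, Perm.sign_swap (by decide),
      Perm.sign_swap (by decide)]
    rfl⟩

/-- `(0 2 1 3)(4 5)` -/
def a7d : alternatingGroup (Fin 7) :=
  ⟨swap 0 2 * swap 2 1 * swap 1 3 * swap 4 5, by
    rw [Perm.mem_alternatingGroup, Perm.sign_mul, Perm.sign_mul, Perm.sign_mul,
      Perm.sign_swap (by decide), Perm.sign_swap (by decide), Perm.sign_swap (by decide),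
      Perm.sign_swap (by decide)]
    rfl⟩

theorem a7_dd : a7d ^ 2 = a7t := by decide

theorem a7_tt : a7t ^ 2 = 1 := by decide

theorem a7_t1 : a7t ≠ 1 := by decide

theorem a7_ccc : a7c ^ 3 = 1 := by decide

theorem a7_c1 : a7c ≠ 1 := by decide

theorem a7_tc : a7t * a7c = a7c * a7t := by decide

theorem a7_cd : a7c * a7d ≠ a7d * a7c := by decide

theorem IsPart.not_alt7 [Finite G] (hS : IsPart S) (hnil : ∀ X ∈ S, Group.IsNilpotent X)
    (e : G ≃* alternatingGroup (Fin 7)) : False := by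
  have h3 : Fact (Nat.Prime 3) := ⟨Nat.prime_three⟩
  have h2 : Fact (Nat.Prime 2) := ⟨Nat.prime_two⟩
  set t := e.symm a7t with ht
  set c := e.symm a7c with hc
  set d := e.symm a7d with hd
  have hdd : d ^ 2 = t := by rw [hd, ht, ← map_pow, a7_dd]
  have htt : t ^ 2 = 1 := by rw [ht, ← map_pow, a7_tt, map_one]
  have ht1 : t ≠ 1 := by
    intro h
    exact a7_t1 ((map_eq_one_iff e.symm e.symm.injective).1 h)
  have hccc : c ^ 3 = 1 := by rw [hc, ← map_pow, a7_ccc, map_one]
  have hc1 : c ≠ 1 := by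
    intro h
    exact a7_c1 ((map_eq_one_iff e.symm e.symm.injective).1 h)
  have htc : t * c = c * t := by rw [ht, hc, ← map_mul, a7_tc, map_mul]
  have hcd : c * d ≠ d * c := by
    intro h
    rw [hc, hd, ← map_mul, ← map_mul] at h
    exact a7_cd (e.symm.injective h)
  have hto : orderOf t = 2 := orderOf_eq_prime htt ht1
  have hco : orderOf c = 3 := orderOf_eq_prime hccc hc1
  obtain ⟨Y, hY, htY⟩ := hS.cover t ht1
  have hcY : c ∈ Y := hS.mem_of_commute hY htY ht1 htc (by rw [hto, hco]; norm_num)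
  have hdY : d ∈ Y := hS.mem_of_pow hY (n := 2) (by rw [hdd]; exact htY) (by rw [hdd]; exact ht1)
  have := hnil Y hY
  have h4 : (⟨d, hdY⟩ : Y) ^ 4 = 1 := by
    apply Subtype.ext
    change d ^ 4 = 1
    rw [show 4 = 2 * 2 from rfl, pow_mul, hdd, htt]
  have h5 : (⟨c, hcY⟩ : Y) ^ 3 = 1 := Subtype.ext hccc
  have h6 := Cfsg.Agent.Lib.NilpotentCoprime.commute_of_pow_eq_one
    (show Nat.Coprime 3 4 by norm_num) h5 h4
  exact hcd (congrArg Subtype.val h6.eq)

end Cfsg.Agent.H550.Part
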