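import Mathlib
import Cfsg.Agent.H550.Part.Basic
import Cfsg.Agent.Lib.MinNormal
import Cfsg.Agent.SignalizersComponents.ComponentExists

/-!
# Invariant nilpotent partitions: the simple normal subgroup
-/

set_option autoImplicit false

namespace Cfsg.Agent.H550.Part

open Subgroup

universe u

variable {G : Type u} [Group G] {S : Set (Subgroup G)}

/-- a subgroup in the union of two subgroups lies in one of them. -/
theorem le_or_le_of_union {M X Y : Subgroup G} (h : ∀ y ∈ M, y ∈ X ∨ y ∈ Y) : M ≤ X ∨ M ≤ Y := by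
  by_contra hcon
  push Not at hcon
  obtain ⟨⟨a, haM, haX⟩, ⟨b, hbM, hbY⟩⟩ :=
    (show (∃ a ∈ M, a ∉ X) ∧ (∃ b ∈ M, b ∉ Y) from
      ⟨by simpa [SetLike.not_le_iff_exists] using hcon.1,
       by simpa [SetLike.not_le_iff_exists] using hcon.2⟩)
  have haY := (h a haM).resolve_left haX
  have hbX := (h b hbM).resolve_right hbY
  rcases h (a * b) (mul_mem haM hbM) with h1 | h1
  · exact haX ((mul_mem_cancel_right hbX).1 h1)
  · exact hbY ((mul_mem_cancel_left haY).1 h1)

/-- two prime divisors of the order of a group which is not a `p`-group -/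
theorem exists_two_primes [Finite G] (hG : ∀ p : ℕ, p.Prime → ¬ IsPGroup p G) :
    ∃ r s : ℕ, r.Prime ∧ s.Prime ∧ r ≠ s ∧ r ∣ Nat.card G ∧ s ∣ Nat.card G := by
  have h1 : Nat.card G ≠ 1 := by
    intro h
    exact hG 2 Nat.prime_two (IsPGroup.of_card (n := 0) (by rw [h, pow_zero]))
  obtain ⟨r, hr, hrd⟩ := Nat.exists_prime_and_dvd h1
  by_contra hcon
  push Not at hcon
  apply hG r hr
  have h2 := Nat.eq_prime_pow_of_unique_prime_dvd (n := Nat.card G) (p := r) Nat.card_pos.ne'
    (fun {d} hd hdd => by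
      by_contra hne
      exact hcon r d hr hd (Ne.symm hne) hrd hdd)
  exact IsPGroup.of_card h2

theorem exists_prime_order_mem [Finite G] {L : Subgroup G} {r : ℕ} (hr : r.Prime)
    (hd : r ∣ Nat.card L) : ∃ x ∈ L, orderOf x = r := by
  have : Fact r.Prime := ⟨hr⟩
  obtain ⟨x, hx⟩ := exists_prime_orderOf_dvd_card' r hd
  exact ⟨x, x.2, by rw [← hx]; exact (orderOf_coe x)⟩

/-- A subgroup centralising a subgroup which is not a `p`-group lies in a component. -/
theorem IsPart.le_of_commute [Finite G] (hS : IsPart S) {L M : Subgroup G}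
    (hLM : ∀ a ∈ L, ∀ b ∈ M, a * b = b * a) (hL : ∀ p : ℕ, p.Prime → ¬ IsPGroup p L) :
    ∃ X ∈ S, M ≤ X := by
  obtain ⟨r, s, hr, hs, hrs, hrL, hsL⟩ := exists_two_primes hL
  obtain ⟨x, hx, hxr⟩ := exists_prime_order_mem hr hrL
  obtain ⟨x', hx', hxs⟩ := exists_prime_order_mem hs hsL
  have hx1 : x ≠ 1 := by
    rintro rfl
    rw [orderOf_one] at hxr
    exact hr.one_lt.ne hxr
  have hx1' : x' ≠ 1 := by
    rintro rfl
    rw [orderOf_one] at hxs
    exact hs.one_lt.ne hxs
  obtain ⟨X, hX, hxX⟩ := hS.cover x hx1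
  obtain ⟨X', hX', hxX'⟩ := hS.cover x' hx1'
  have key : ∀ y ∈ M, y ∈ X ∨ y ∈ X' := by
    intro y hy
    by_cases hyr : orderOf y = r
    · right
      exact hS.mem_of_commute hX' hxX' hx1' (hLM x' hx' y hy) (by rw [hyr, hxs]; exact hrs)
    · left
      exact hS.mem_of_commute hX hxX hx1 (hLM x hx y hy) (by rw [hxr]; exact hyr)
  rcases le_or_le_of_union key with h | h
  · exact ⟨X, hX, h⟩
  · exact ⟨X', hX', h⟩

theorem eq_bot_of_normal_of_normal [Finite G]
    (hF : ∀ A : Subgroup G, A.Normal → Group.IsSolvable A → A = ⊥)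
    {N L : Subgroup G} (hN : N.Normal) (hLN : L ≤ N) (hNL : N ≤ normalizer (L : Set G))
    (hs : Group.IsSolvable L) : L = ⊥ := by
  obtain ⟨R, hRc, hRs, hR⟩ :=
    Cfsg.Agent.SignalizersComponents.ComponentExists.exists_solvableRadical N
  have h1 : (L.subgroupOf N).Normal := normal_subgroupOf_of_le_normalizer hNL
  have h2 : Group.IsSolvable (L.subgroupOf N) :=
    Group.isSolvable_of_isSolvable_injective (f := (subgroupOfEquivOfLe hLN).toMonoidHom)
      (subgroupOfEquivOfLe hLN).injective
  have h3 := hR _ h1 h2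
  have h4 : (R.map N.subtype).Normal := inferInstance
  have h5 : Group.IsSolvable (R.map N.subtype) :=
    Group.isSolvable_of_surjective
      (f := (R.equivMapOfInjective N.subtype N.subtype_injective).toMonoidHom)
      (R.equivMapOfInjective N.subtype N.subtype_injective).surjective
  have h6 := hF _ h4 h5
  have h7 : (L.subgroupOf N).map N.subtype = L := by
    rw [subgroupOf_map_subtype, inf_eq_left.2 hLN]
  rw [eq_bot_iff, ← h6, ← h7]
  exact Subgroup.map_mono h3

theorem isNilpotent_of_le {H K : Subgroup G} (h : H ≤ K) [Group.IsNilpotent K] :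
    Group.IsNilpotent H :=
  Group.nilpotent_of_mulEquiv (subgroupOfEquivOfLe h)

theorem isSolvable_of_isPGroup {p : ℕ} [hp : Fact p.Prime] [Finite G] (h : IsPGroup p G) :
    Group.IsSolvable G := by
  have := h.isNilpotent
  infer_instance

theorem map_conj_le_iff {L N : Subgroup G} (hN : N.Normal) (g : G) (hLN : L ≤ N) :
    L.map (MulAut.conj g).toMonoidHom ≤ N := by
  rintro _ ⟨x, hx, rfl⟩
  exact hN.conj_mem x (hLN hx) g

theorem le_normalizer_map_conj {L N : Subgroup G} (hN : N.Normal) (g : G)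
    (hNL : N ≤ normalizer (L : Set G)) :
    N ≤ normalizer ((L.map (MulAut.conj g).toMonoidHom : Subgroup G) : Set G) := by
  intro n hn
  have h1 : g⁻¹ * n * g ∈ N := by
    have := hN.conj_mem n hn g⁻¹
    rwa [inv_inv] at this
  have h2 := hNL h1
  rw [mem_normalizer_iff_map_conj_eq] at h2 ⊢
  have h3 : (L.map (MulAut.conj g).toMonoidHom).map (MulAut.conj n).toMonoidHom =
      (L.map (MulAut.conj (g⁻¹ * n * g)).toMonoidHom).map (MulAut.conj g).toMonoidHom := by
    rw [Subgroup.map_map, Subgroup.map_map]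
    congr 1
    ext x
    change n * (g * x * g⁻¹) * n⁻¹ = g * (g⁻¹ * n * g * x * (g⁻¹ * n * g)⁻¹) * g⁻¹
    group
  change (L.map (MulAut.conj g).toMonoidHom).map (MulAut.conj n).toMonoidHom = _
  rw [h3]
  exact congrArg (fun K : Subgroup G => K.map (MulAut.conj g).toMonoidHom) h2

/-- **The simple normal subgroup.** -/
theorem IsPart.exists_simple [Finite G] [Nontrivial G] (hS : IsPart S)
    (hnil : ∀ X ∈ S, Group.IsNilpotent X)
    (hF : ∀ A : Subgroup G, A.Normal → Group.IsSolvable A → A = ⊥) :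
    ∃ N : Subgroup G, N.Normal ∧ IsSimpleGroup N ∧ ¬ Group.IsSolvable N ∧
      centralizer (N : Set G) = ⊥ := by
  obtain ⟨N, -, hN0, hNn, hNmin⟩ :=
    Cfsg.Agent.Lib.MinNormal.exists_minimal_normal_le (⊤ : Subgroup G) bot_ne_top.symm
  have hN : N.Normal := by
    rw [← normalizer_eq_top_iff, eq_top_iff]
    exact hNn
  have hNs : ¬ Group.IsSolvable N := fun h => hN0 (hF N hN h)
  -- subgroups normalised by `N` are not `p`-groups
  have hnotp : ∀ L : Subgroup G, L ≤ N → N ≤ normalizer (L : Set G) → L ≠ ⊥ →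
      ∀ p : ℕ, p.Prime → ¬ IsPGroup p L := by
    intro L hLN hNL hL0 p hp hLp
    have := Fact.mk hp
    exact hL0 (eq_bot_of_normal_of_normal hF hN hLN hNL (isSolvable_of_isPGroup hLp))
  refine ⟨N, hN, ?_, hNs, ?_⟩
  · have hnt : Nontrivial N := (Subgroup.nontrivial_iff_ne_bot N).2 hN0
    refine ⟨fun K hK => ?_⟩
    by_contra hcon
    push Not at hcon
    obtain ⟨hK0, hKt⟩ := hcon
    set K' : Subgroup G := K.map N.subtype with hK'
    have hKN' : K' ≤ N := by
      rintro _ ⟨x, -, rfl⟩
      exact x.2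
    have hK0' : K' ≠ ⊥ := by
      intro h
      apply hK0
      rw [hK', Subgroup.map_eq_bot_iff, Subgroup.ker_subtype] at h
      exact le_bot_iff.1 h
    have hNK' : N ≤ normalizer (K' : Set G) := by
      intro n hn
      rw [mem_normalizer_iff]
      intro h
      constructor
      · rintro ⟨x, hx, rfl⟩
        exact ⟨⟨n, hn⟩ * x * ⟨n, hn⟩⁻¹, hK.conj_mem x hx _, rfl⟩
      · rintro ⟨x, hx, hxe⟩
        refine ⟨⟨n, hn⟩⁻¹ * x * ⟨n, hn⟩, ?_, ?_⟩
        · have := hK.conj_mem x hx ⟨n, hn⟩⁻¹
          rwa [inv_inv] at this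
        · change n⁻¹ * (x : G) * n = h
          have hxe' : (x : G) = n * h * n⁻¹ := hxe
          rw [hxe']
          group
    have hfin : {L : Subgroup G | L ≤ K' ∧ L ≠ ⊥ ∧ N ≤ normalizer (L : Set G)}.Finite :=
      Set.toFinite _
    obtain ⟨L, ⟨hLK, hL0, hNL⟩, hLmin⟩ := hfin.exists_minimal ⟨K', le_rfl, hK0', hNK'⟩
    have hLN : L ≤ N := hLK.trans hKN'
    by_cases hall : ∀ g : G, L ⊓ L.map (MulAut.conj g).toMonoidHom = L
    · have hLn : L.Normal := by
        refine ⟨fun n hn g => ?_⟩
        have h1 : L ≤ L.map (MulAut.conj g⁻¹).toMonoidHom := by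
          conv_lhs => rw [← hall g⁻¹]
          exact inf_le_right
        obtain ⟨x, hx, hxe⟩ := h1 hn
        have hxe' : g⁻¹ * x * g⁻¹⁻¹ = n := hxe
        have h2 : g * n * g⁻¹ = x := by
          rw [← hxe']; group
        rw [h2]
        exact hx
      rcases hNmin L hLN (by rw [normalizer_eq_top_iff.2 hLn]) with h | h
      · exact hL0 h
      · apply hKt
        have h2 : N ≤ K' := h ▸ hLK
        rw [eq_top_iff]
        intro n _
        obtain ⟨x, hx, hxe⟩ := h2 n.2
        have : x = n := Subtype.ext hxe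
        exact this ▸ hx
    · push Not at hall
      obtain ⟨g, hg⟩ := hall
      set L' : Subgroup G := L.map (MulAut.conj g).toMonoidHom with hL'
      have hLN' : L' ≤ N := map_conj_le_iff hN g hLN
      have hNL' : N ≤ normalizer (L' : Set G) := le_normalizer_map_conj hN g hNL
      have hinf : L ⊓ L' = ⊥ := by
        by_contra h0
        apply hg
        apply le_antisymm inf_le_left
        exact hLmin ⟨inf_le_left.trans hLK, h0,
          Cfsg.Agent.Lib.MinNormal.le_normalizer_inf hNL hNL'⟩ inf_le_left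
      have hcomm : ∀ a ∈ L, ∀ b ∈ L', a * b = b * a := by
        intro a ha b hb
        have h1 : a * b * a⁻¹ * b⁻¹ ∈ L ⊓ L' := by
          refine ⟨?_, ?_⟩
          · have h2 := (mem_normalizer_iff.1 (hNL (hLN' hb)) a⁻¹).1 (inv_mem ha)
            have h3 : a * b * a⁻¹ * b⁻¹ = a * (b * a⁻¹ * b⁻¹) := by group
            rw [h3]
            exact mul_mem ha h2
          · exact mul_mem ((mem_normalizer_iff.1 (hNL' (hLN ha)) b).1 hb) (L'.inv_mem hb)
        rw [hinf, mem_bot] at h1
        have h2 : a * b = a * b * a⁻¹ * b⁻¹ * (b * a) := by group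
        rw [h2, h1, one_mul]
      obtain ⟨X, hX, hLX⟩ := hS.le_of_commute hcomm (hnotp L hLN hNL hL0)
      have hLnil : Group.IsNilpotent L' := by
        have := hnil X hX
        exact isNilpotent_of_le hLX
      have hLs : Group.IsSolvable L' := inferInstance
      have h1 := eq_bot_of_normal_of_normal hF hN hLN' hNL' hLs
      apply hL0
      rw [hL', Subgroup.map_eq_bot_iff_of_injective _ (MulAut.conj g).injective] at h1
      exact h1
  · obtain ⟨X, hX, hCX⟩ := hS.le_of_commute (L := N) (M := centralizer (N : Set G))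
      (fun a ha b hb => mem_centralizer_iff.1 hb a ha)
      (hnotp N le_rfl le_normalizer hN0)
    have hCnil : Group.IsNilpotent (centralizer (N : Set G)) := by
      have := hnil X hX
      exact isNilpotent_of_le hCX
    exact hF _ inferInstance inferInstance

end Cfsg.Agent.H550.Part
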