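import Mathlib
import Cfsg.Prelude.Def_Involutions
import Cfsg.Prelude.Def_CaseTheorems
import Cfsg.Agent.H550.Part.Simple
import Cfsg.Agent.Lib.Cores
import Cfsg.Agent.LieExceptional.CCEven
import Cfsg.Agent.OddOrderLocal.CNBasic

/-!
# Invariant nilpotent partitions: a Sylow 2-subgroup inside a component
-/

set_option autoImplicit false

namespace Cfsg.Agent.H550.Part

open Subgroup

universe u

variable {G : Type u} [Group G] {S : Set (Subgroup G)}

/-- the `p`-elements of a nilpotent subgroup form a `p`-subgroup. -/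
theorem nil_pPart [Finite G] (p : ℕ) [hp : Fact p.Prime] {X : Subgroup G}
    (hX : Group.IsNilpotent X) :
    ∃ P : Subgroup G, P ≤ X ∧ IsPGroup p P ∧ (∀ x ∈ X, (∃ k : ℕ, x ^ p ^ k = 1) → x ∈ P) ∧
      normalizer (X : Set G) ≤ normalizer (P : Set G) := by
  obtain ⟨P0⟩ : Nonempty (Sylow p X) := inferInstance
  have hn : (P0 : Subgroup X).Normal := by
    have h := (Group.isNilpotent_of_finite_tfae (G := X)).out 0 3
    exact h.1 hX p hp P0
  have hmem : ∀ x ∈ X, (∃ k : ℕ, x ^ p ^ k = 1) → x ∈ (P0 : Subgroup X).map X.subtype := by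
    rintro x hx ⟨k, hk⟩
    have h1 : IsPGroup p (zpowers (⟨x, hx⟩ : X)) := by
      rw [isPGroup_iff_pow_pow_eq_one]
      rintro ⟨y, hy⟩
      obtain ⟨m, rfl⟩ := mem_zpowers_iff.1 hy
      refine ⟨k, ?_⟩
      apply Subtype.ext
      change ((⟨x, hx⟩ : X) ^ m) ^ p ^ k = 1
      rw [← zpow_natCast, ← zpow_mul, mul_comm, zpow_mul, zpow_natCast]
      have : (⟨x, hx⟩ : X) ^ p ^ k = 1 := Subtype.ext hk
      rw [this, one_zpow]
    obtain ⟨Q, hQ⟩ := h1.exists_le_sylow
    have hQP : Q = P0 := by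
      have := Sylow.unique_of_normal P0 hn
      exact Subsingleton.elim _ _
    exact ⟨⟨x, hx⟩, by rw [← hQP]; exact hQ (mem_zpowers _), rfl⟩
  have hle : (P0 : Subgroup X).map X.subtype ≤ X := by
    rintro _ ⟨x, -, rfl⟩
    exact x.2
  have hpg : IsPGroup p ((P0 : Subgroup X).map X.subtype) := P0.2.map _
  refine ⟨(P0 : Subgroup X).map X.subtype, hle, hpg, hmem, ?_⟩
  have hconj : ∀ g ∈ normalizer (X : Set G), ∀ x ∈ (P0 : Subgroup X).map X.subtype,
      g * x * g⁻¹ ∈ (P0 : Subgroup X).map X.subtype := by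
    intro g hg x hx
    apply hmem
    · exact (mem_normalizer_iff.1 hg x).1 (hle hx)
    · obtain ⟨k, hk⟩ := (isPGroup_iff_pow_pow_eq_one.1 hpg) ⟨x, hx⟩
      refine ⟨k, ?_⟩
      have hk' : x ^ p ^ k = 1 := congrArg Subtype.val hk
      rw [conj_pow, hk', mul_one, mul_inv_cancel]
  intro g hg
  rw [mem_normalizer_iff]
  intro x
  refine ⟨hconj g hg x, fun h => ?_⟩
  have h1 := hconj g⁻¹ (inv_mem hg) _ h
  have h2 : g⁻¹ * (g * x * g⁻¹) * g⁻¹⁻¹ = x := by group
  rwa [h2] at h1

theorem sylow_mem_of_normalizer [Finite G] {p : ℕ} [Fact p.Prime] (T : Sylow p G) {t : G}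
    (ht : t ∈ normalizer ((T : Subgroup G) : Set G)) (hp : ∃ k : ℕ, t ^ p ^ k = 1) :
    t ∈ (T : Subgroup G) := by
  obtain ⟨k, hk⟩ := hp
  have h1 : IsPGroup p (zpowers t) := by
    rw [isPGroup_iff_pow_pow_eq_one]
    rintro ⟨y, hy⟩
    obtain ⟨m, rfl⟩ := mem_zpowers_iff.1 hy
    refine ⟨k, ?_⟩
    apply Subtype.ext
    change (t ^ m) ^ p ^ k = 1
    rw [← zpow_natCast, ← zpow_mul, mul_comm, zpow_mul, zpow_natCast, hk, one_zpow]
  have h2 : IsPGroup p ((T : Subgroup G) ⊔ zpowers t : Subgroup G) := by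
    rw [sup_comm]
    exact IsPGroup.to_sup_of_normal_right' h1 T.2 (by rwa [zpowers_le])
  have h3 := T.3 h2 le_sup_left
  have h4 : t ∈ ((T : Subgroup G) ⊔ zpowers t : Subgroup G) :=
    (le_sup_right : zpowers t ≤ _) (mem_zpowers t)
  rw [h3] at h4
  exact h4

/-- If a Sylow 2-subgroup lies in a component then it is a component, provided `O(H) ≤ O(G)` for
strongly embedded subgroups `H`. -/
theorem IsPart.conf_of_sylow_le [Finite G] [IsSimpleGroup G] (hS : IsPart S)
    (hnil : ∀ X ∈ S, Group.IsNilpotent X) (heven : 2 ∣ Nat.card G)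
    (h1221 : ∀ H : Subgroup G, IsStronglyEmbedded H →
      (oddCore ↥H).map H.subtype ≤ oddCore G)
    (T : Sylow 2 G) {X : Subgroup G} (hX : X ∈ S) (hTX : (T : Subgroup G) ≤ X) :
    LieExceptional.CCEven.Conf (T : Subgroup G) := by
  have hXn := hnil X hX
  set M : Subgroup G := normalizer (X : Set G) with hM
  have hXM : X ≤ M := le_normalizer
  have hMtop : M ≠ ⊤ := by
    intro h
    have h1 : X.Normal := normalizer_eq_top_iff.1 h
    rcases h1.eq_bot_or_eq_top with h2 | h2
    · exact hS.ne_bot X hX h2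
    · exact hS.top (h2 ▸ hX)
  have h2T : 2 ∣ Nat.card (T : Subgroup G) := by
    have := T.card_eq_multiplicity
    rw [this]
    apply dvd_pow_self
    have := (Nat.Prime.factorization_pos_of_dvd Nat.prime_two (Nat.card_pos (α := G)).ne' heven)
    omega
  obtain ⟨P, hPX, hP2, hPmem, hPM⟩ := nil_pPart 2 hXn
  have hTP : (T : Subgroup G) = P := by
    have h1 : (T : Subgroup G) ≤ P := by
      intro x hx
      apply hPmem x (hTX hx)
      obtain ⟨k, hk⟩ := (isPGroup_iff_pow_pow_eq_one.1 T.2) ⟨x, hx⟩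
      exact ⟨k, congrArg Subtype.val hk⟩
    exact (T.3 hP2 h1).symm
  -- 2-elements of `M` lie in `T`
  have hMT : ∀ t ∈ M, (∃ k : ℕ, t ^ 2 ^ k = 1) → t ∈ (T : Subgroup G) := by
    intro t ht hk
    apply sylow_mem_of_normalizer T _ hk
    have h1 := hPM ht
    rw [← hTP] at h1
    exact h1
  have hSE : IsStronglyEmbedded M := by
    refine ⟨hMtop, ?_, ?_⟩
    · rw [even_iff_two_dvd]
      exact h2T.trans (Subgroup.card_dvd_of_le (hTX.trans hXM))
    · intro g hg
      by_contra hodd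
      rw [Nat.not_odd_iff_even, even_iff_two_dvd] at hodd
      obtain ⟨t, ht, ht2⟩ := exists_prime_order_mem Nat.prime_two hodd
      have ht1 : t ≠ 1 := by
        rintro rfl
        rw [orderOf_one] at ht2
        omega
      have ht2' : t ^ 2 = 1 := by rw [← ht2]; exact pow_orderOf_eq_one t
      obtain ⟨htM, htM'⟩ := ht
      obtain ⟨s, hs, hst⟩ := htM'
      have hst' : g * s * g⁻¹ = t := hst
      have hs2 : s ^ 2 = 1 := by
        rw [← hst', conj_pow] at ht2'
        exact conj_eq_one_iff.1 ht2'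
      have htX : t ∈ X := hTX (hMT t htM ⟨1, by rw [pow_one]; exact ht2'⟩)
      have hsX : s ∈ X := hTX (hMT s hs ⟨1, by rw [pow_one]; exact hs2⟩)
      have hs1 : s ≠ 1 := by
        rintro rfl
        apply ht1
        rw [← hst', mul_one, mul_inv_cancel]
      apply hg
      exact hS.mem_normalizer hX hsX hs1 (hst'.symm ▸ htX)
  have hcore := h1221 M hSE
  have hcoreG : oddCore G = ⊥ := by
    have hn : (oddCore G).Normal := inferInstance
    rcases hn.eq_bot_or_eq_top with h | h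
    · exact h
    · exfalso
      have h1 := (Lib.Cores.le_pPrimeCore_iff (p := 2) (inferInstance : (⊤ : Subgroup G).Normal)).1
        (le_of_eq h.symm)
      rw [Subgroup.card_top] at h1
      exact (Nat.Prime.coprime_iff_not_dvd Nat.prime_two).1 h1.symm heven
  rw [hcoreG, le_bot_iff, Subgroup.map_eq_bot_iff_of_injective _ M.subtype_injective] at hcore
  -- `X` is a 2-group
  have hX2 : ∀ p : ℕ, p.Prime → p ≠ 2 → ¬ p ∣ Nat.card X := by
    intro p hp hp2 hpd
    have := Fact.mk hp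
    obtain ⟨x, hx, hxp⟩ := exists_prime_order_mem hp hpd
    obtain ⟨Q, hQX, hQp, hQmem, hQM⟩ := nil_pPart p hXn
    have hxQ : x ∈ Q := hQmem x hx ⟨1, by rw [pow_one, ← hxp]; exact pow_orderOf_eq_one x⟩
    have hQM' : Q ≤ M := hQX.trans hXM
    have h1 : (Q.subgroupOf M).Normal := normal_subgroupOf_of_le_normalizer hQM
    have h2 : (Nat.card (Q.subgroupOf M)).Coprime 2 := by
      rw [Nat.card_congr (subgroupOfEquivOfLe hQM').toEquiv]
      obtain ⟨n, hn⟩ := IsPGroup.iff_card.1 hQp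
      rw [hn]
      exact Nat.Coprime.pow_left n ((Nat.coprime_primes hp Nat.prime_two).2 hp2)
    have h3 := (Lib.Cores.le_pPrimeCore_iff (p := 2) h1).2 h2
    rw [show pPrimeCore 2 M = ⊥ from hcore, le_bot_iff, subgroupOf_eq_bot] at h3
    have h4 : x ∈ (⊥ : Subgroup G) := h3.le_bot ⟨hxQ, hXM hx⟩
    rw [mem_bot] at h4
    rw [h4, orderOf_one] at hxp
    exact hp.one_lt.ne hxp
  have hX2' : IsPGroup 2 X := by
    by_contra hcon
    have h1 := Nat.eq_prime_pow_of_unique_prime_dvd (n := Nat.card X) (p := 2) Nat.card_pos.ne'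
      (fun {d} hd hdd => by
        by_contra hne
        exact hX2 d hd hne hdd)
    exact hcon (IsPGroup.of_card h1)
  have hXT : X = T := T.3 hX2' hTX
  refine ⟨?_, ?_, h2T⟩
  · intro h hh hh1 g hg
    rw [← hXT] at hh ⊢
    by_contra hgX
    have h1 := hS.prime_of_commute hX hh hh1 hgX hg.symm
    have h2 : orderOf h = 2 := by
      obtain ⟨k, hk⟩ := (IsPGroup.iff_orderOf.1 hX2') ⟨h, hh⟩
      rw [orderOf_mk] at hk
      rw [hk] at h1
      have h3 : k ≠ 0 := by
        rintro rfl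
        exact absurd h1.1 (by rw [pow_zero]; exact Nat.not_prime_one)
      have h4 := (Nat.Prime.eq_one_or_self_of_dvd h1.1 2 (dvd_pow_self 2 h3)).resolve_left (by norm_num)
      rw [hk]
      exact h4.symm
    apply hgX
    rw [hXT]
    apply hMT g
    · exact hS.mem_normalizer_of_commute hX hh hh1 hg
    · refine ⟨1, ?_⟩
      rw [pow_one, ← h2, ← h1.2]
      exact pow_orderOf_eq_one g
  · intro h hh hh1 g hg
    rw [← hXT] at hh hg ⊢
    exact hS.mem_normalizer hX hh hh1 hg

end Cfsg.Agent.H550.Part
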