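import Mathlib
import Cfsg.Agent.H550.Part.Strong
import Cfsg.Agent.SylowSp4.ExtTransfer
import Cfsg.Agent.SignalizersComponents.DihedralIso
import Cfsg.Agent.Transfer.PGroupNormal

/-!
# Invariant partitions: a Sylow 2-subgroup outside of the components
-/

set_option autoImplicit false

namespace Cfsg.Agent.H550.Part

open Subgroup

universe u

variable {G : Type u} [Group G] {S : Set (Subgroup G)}

theorem IsPart.sq_of_commute [Finite G] (hS : IsPart S) {X : Subgroup G} (hX : X ∈ S) {z u : G}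
    (hz : z ∈ X) (hz2 : orderOf z = 2) (hu : u ∉ X) (huz : u * z = z * u) : u * u = 1 := by
  have hz1 : z ≠ 1 := by
    rintro rfl
    rw [orderOf_one] at hz2
    omega
  have h1 := hS.prime_of_commute hX hz hz1 hu huz.symm
  have h2 : orderOf u = 2 := h1.2.trans hz2
  rw [← pow_two, ← h2]
  exact pow_orderOf_eq_one u

theorem IsPart.inv_of_commute [Finite G] (hS : IsPart S) {X : Subgroup G} (hX : X ∈ S) {z u b : G}
    (hz : z ∈ X) (hz2 : orderOf z = 2) (hu : u ∉ X) (huz : u * z = z * u) (hb : b ∈ X)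
    (hbz : b * z = z * b) : u * b * u⁻¹ = b⁻¹ := by
  have h1 := hS.sq_of_commute hX hz hz2 hu huz
  have h2 : u * b ∉ X := fun h => hu ((mul_mem_cancel_right hb).1 h)
  have h3 : u * b * z = z * (u * b) := by
    rw [mul_assoc, hbz, ← mul_assoc, huz, mul_assoc]
  have h4 := hS.sq_of_commute hX hz hz2 h2 h3
  have h5 : u⁻¹ = u := inv_eq_of_mul_eq_one_left h1
  rw [h5]
  exact eq_inv_of_mul_eq_one_left (by rw [mul_assoc]; exact h4)

theorem zpowers_two_group [Finite G] {t : G} (ht : orderOf t = 2) : IsPGroup 2 (zpowers t) := by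
  apply IsPGroup.of_card (n := 1)
  rw [Nat.card_zpowers, ht, pow_one]

/-- `⟨s, t⟩` is a 2-group -/
theorem exists_conj_mem_sylow [Finite G] (T : Sylow 2 G) {s t : G} (hs : orderOf s = 2)
    (ht : orderOf t = 2) (hst : s * t = t * s) :
    ∃ g : G, g * s * g⁻¹ ∈ (T : Subgroup G) ∧ g * t * g⁻¹ ∈ (T : Subgroup G) := by
  have h1 : IsPGroup 2 (zpowers s ⊔ zpowers t : Subgroup G) := by
    refine IsPGroup.to_sup_of_normal_right' (zpowers_two_group hs) (zpowers_two_group ht) ?_
    rw [zpowers_le]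
    have h2 : s ∈ centralizer ((zpowers t : Subgroup G) : Set G) := by
      rw [mem_centralizer_iff]
      rintro _ ⟨k, rfl⟩
      exact ((show Commute s t from hst).zpow_right k).symm
    exact centralizer_le_normalizer _ h2
  obtain ⟨Q, hQ⟩ := h1.exists_le_sylow
  obtain ⟨g, hg⟩ := MulAction.exists_smul_eq G Q T
  refine ⟨g, ?_, ?_⟩
  · have h3 : s ∈ (Q : Subgroup G) := hQ ((le_sup_left : zpowers s ≤ _) (mem_zpowers s))
    rw [← hg]
    exact ⟨s, h3, rfl⟩
  · have h3 : t ∈ (Q : Subgroup G) := hQ ((le_sup_right : zpowers t ≤ _) (mem_zpowers t))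
    rw [← hg]
    exact ⟨t, h3, rfl⟩

theorem IsPart.dihedral [Finite G] (hS : IsPart S) (hG : ∀ (f : G →* ℤˣ) (u : G), f u = 1)
    (T : Sylow 2 G) {X : Subgroup G} (hX : X ∈ S) {z : G} (hzT : z ∈ (T : Subgroup G)) (hzX : z ∈ X)
    (hz2 : orderOf z = 2) (hzc : ∀ t ∈ (T : Subgroup G), t * z = z * t)
    (hTX : ¬ (T : Subgroup G) ≤ X)
    (hidx : ∀ u ∈ (T : Subgroup G), u ∉ X → ∀ v ∈ (T : Subgroup G), v ∉ X → u * v ∈ X) :
    (∃ n : ℕ, 2 ≤ n ∧ Nonempty ((T : Subgroup G) ≃* DihedralGroup n)) ∧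
      ∀ Y ∈ S, ∀ s ∈ Y, ∀ t ∈ Y, orderOf s = 2 → orderOf t = 2 → s * t = t * s → s = t := by
  have hz1 : z ≠ 1 := by
    rintro rfl
    rw [orderOf_one] at hz2
    omega
  obtain ⟨u, huT, huX⟩ := SetLike.not_le_iff_exists.1 hTX
  have huu : u * u = 1 := hS.sq_of_commute hX hzX hz2 huX (hzc u huT)
  have huinv : ∀ b ∈ (T : Subgroup G), b ∈ X → u * b * u⁻¹ = b⁻¹ := fun b hbT hbX =>
    hS.inv_of_commute hX hzX hz2 huX (hzc u huT) hbX (hzc b hbT)
  set T0 : Subgroup G := (T : Subgroup G) ⊓ X with hT0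
  have hrel : T0.relIndex (T : Subgroup G) = 2 := by
    rw [Subgroup.relIndex, Subgroup.index_eq_two_iff]
    refine ⟨⟨u, huT⟩, fun b => ?_⟩
    rw [mem_subgroupOf, mem_subgroupOf]
    by_cases hb : (b : G) ∈ X
    · right
      refine ⟨⟨b.2, hb⟩, ?_⟩
      rintro ⟨-, h⟩
      exact huX ((mul_mem_cancel_left hb).1 h)
    · left
      refine ⟨⟨mul_mem b.2 huT, hidx b b.2 hb u huT huX⟩, ?_⟩
      rintro ⟨-, h⟩
      exact hb h
  -- `z` is the only involution of `T0`
  have huniq : ∀ z' ∈ (T : Subgroup G), z' ∈ X → orderOf z' = 2 → z' = z := by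
    intro z' hzT' hzX' hz2'
    by_contra hne
    have hz1' : z' ≠ 1 := by
      rintro rfl
      rw [orderOf_one] at hz2'
      omega
    have hzz' : z' * z' = 1 := by
      rw [← pow_two, ← hz2']
      exact pow_orderOf_eq_one z'
    have hcomm : z' * u = u * z' := by
      have h1 := huinv z' hzT' hzX'
      rw [inv_eq_of_mul_eq_one_left hzz', mul_inv_eq_iff_eq_mul] at h1
      exact h1.symm
    have hR : IsPGroup 2 ((T : Subgroup G) ⊓ centralizer ({u} : Set G) : Subgroup G) :=
      T.2.to_le inf_le_left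
    obtain ⟨g, hg1, hg2⟩ := Cfsg.Agent.SylowSp4.ExtTransfer.exists_extremal T T0 inf_le_left hrel u huu
      (fun f => hG f u) _ hR (fun r hr => by
        have := mem_centralizer_singleton_iff.1 hr.2
        first
          | exact this
          | exact this.symm)
    have hnot : ∀ w ∈ X, w ≠ 1 → g * w * g⁻¹ ∉ X := by
      intro w hw hw1 hgw
      have h1 := hS.mem_normalizer hX hw hw1 hgw
      exact huX ((mem_normalizer_iff.1 h1 u).2 hg1.2)
    have h1 : g * z * g⁻¹ ∈ (T : Subgroup G) :=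
      hg2 z ⟨hzT, mem_centralizer_singleton_iff.2 (by
        first
          | exact hzc u huT
          | exact (hzc u huT).symm)⟩
    have h2 : g * z' * g⁻¹ ∈ (T : Subgroup G) :=
      hg2 z' ⟨hzT', mem_centralizer_singleton_iff.2 (by
        first
          | exact hcomm
          | exact hcomm.symm)⟩
    have h3 := hidx _ h1 (hnot z hzX hz1) _ h2 (hnot z' hzX' hz1')
    have h4 : g * z * g⁻¹ * (g * z' * g⁻¹) = g * (z * z') * g⁻¹ := by group
    rw [h4] at h3
    refine hnot (z * z') (mul_mem hzX hzX') ?_ h3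
    intro h5
    apply hne
    have h6 : z' = z⁻¹ := (inv_eq_of_mul_eq_one_right h5).symm
    have hzz : z * z = 1 := by
      rw [← pow_two, ← hz2]
      exact pow_orderOf_eq_one z
    rw [h6, inv_eq_of_mul_eq_one_left hzz]
  -- `T0` is abelian, so cyclic
  have hab : ∀ a b : T0, a * b = b * a := by
    intro a b
    apply Subtype.ext
    change (a : G) * b = b * a
    have h1 := huinv (a * b) (mul_mem a.2.1 b.2.1) (mul_mem a.2.2 b.2.2)
    have h2 : u * (a * b : G) * u⁻¹ = (u * a * u⁻¹) * (u * b * u⁻¹) := by group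
    rw [h2, huinv a a.2.1 a.2.2, huinv b b.2.1 b.2.2, mul_inv_rev] at h1
    have h3 : ((a : G)⁻¹ * (b : G)⁻¹)⁻¹ = ((b : G)⁻¹ * (a : G)⁻¹)⁻¹ := by rw [h1]
    rw [mul_inv_rev, mul_inv_rev, inv_inv, inv_inv] at h3
    exact h3.symm
  have hcyc : IsCyclic T0 := by
    let _ : CommGroup T0 := { (inferInstance : Group T0) with mul_comm := hab }
    have h2f : Fact (Nat.Prime 2) := ⟨Nat.prime_two⟩
    refine Cfsg.Agent.Transfer.PGroupNormal.isCyclic_of_card_ker_pow_le (p := 2)
      (T.2.to_le inf_le_left) ?_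
    have h1 : ∀ x ∈ (powMonoidHom 2 : T0 →* T0).ker, x = 1 ∨ x = ⟨z, hzT, hzX⟩ := by
      intro x hx
      rw [MonoidHom.mem_ker, powMonoidHom_apply] at hx
      by_cases hx1 : x = 1
      · exact Or.inl hx1
      · right
        apply Subtype.ext
        apply huniq x x.2.1 x.2.2
        rw [orderOf_coe]
        exact orderOf_eq_prime hx hx1
    have h3 : ((powMonoidHom 2 : T0 →* T0).ker : Set T0) ⊆ {1, ⟨z, hzT, hzX⟩} := by
      intro x hx
      exact h1 x hx
    have h4 := Set.ncard_le_ncard h3 (Set.toFinite _)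
    have h5 : ({1, ⟨z, hzT, hzX⟩} : Set T0).ncard ≤ 2 := by
      refine (Set.ncard_insert_le _ _).trans ?_
      rw [Set.ncard_singleton]
    exact h4.trans h5
  obtain ⟨⟨a, haT, haX⟩, ha⟩ := hcyc.exists_generator
  have hgen : ∀ b ∈ (T : Subgroup G), b ∈ X → b ∈ zpowers a := by
    intro b hbT hbX
    obtain ⟨k, hk⟩ := mem_zpowers_iff.1 (ha ⟨b, hbT, hbX⟩)
    exact mem_zpowers_iff.2 ⟨k, congrArg Subtype.val hk⟩
  have haTX : zpowers a ≤ X := by rwa [zpowers_le]
  have haTT : zpowers a ≤ T := by rwa [zpowers_le]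
  have hdih := Cfsg.Agent.SignalizersComponents.DihedralIso.nonempty_mulEquiv_of_notMem u a huu
    (huinv a haT haX) (fun h => huX (haTX h))
  have hTeq : (zpowers u ⊔ zpowers a : Subgroup G) = T := by
    apply le_antisymm
    · exact sup_le (by rwa [zpowers_le]) haTT
    · intro t ht
      by_cases htX : t ∈ X
      · exact (le_sup_right : zpowers a ≤ _) (hgen t ht htX)
      · have h1 := hgen _ (mul_mem huT ht) (hidx u huT huX t ht htX)
        have h2 : t = u⁻¹ * (u * t) := by group
        rw [h2]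
        exact mul_mem (inv_mem ((le_sup_left : zpowers u ≤ _) (mem_zpowers u)))
          ((le_sup_right : zpowers a ≤ _) h1)
  have hn2 : 2 ≤ orderOf a := by
    have h1 : a ≠ 1 := by
      rintro rfl
      have := hgen z hzT hzX
      rw [zpowers_one_eq_bot, mem_bot] at this
      exact hz1 this
    have h2 : orderOf a ≠ 1 := fun h => h1 (orderOf_eq_one_iff.1 h)
    have h3 := orderOf_pos a
    omega
  refine ⟨⟨orderOf a, hn2, ?_⟩, ?_⟩
  · rw [hTeq] at hdih
    exact hdih
  · -- commuting involutions lie in different components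
    intro Y hY s hs t ht hs2 ht2 hst
    by_contra hne
    obtain ⟨g, hgs, hgt⟩ := exists_conj_mem_sylow T hs2 ht2 hst
    set s' := g * s * g⁻¹ with hs'
    set t' := g * t * g⁻¹ with ht'
    have hY' := hS.conj Y hY g
    set Y' : Subgroup G := Y.map (MulAut.conj g).toMonoidHom with hYdef
    have hsY' : s' ∈ Y' := ⟨s, hs, rfl⟩
    have htY' : t' ∈ Y' := ⟨t, ht, rfl⟩
    have hs2' : orderOf s' = 2 := by
      rw [hs', ← hs2]
      exact orderOf_injective (MulAut.conj g).toMonoidHom (MulAut.conj g).injective s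
    have ht2' : orderOf t' = 2 := by
      rw [ht', ← ht2]
      exact orderOf_injective (MulAut.conj g).toMonoidHom (MulAut.conj g).injective t
    have hne' : s' ≠ t' := by
      intro h
      apply hne
      have h1 : g * s * g⁻¹ = g * t * g⁻¹ := h
      exact mul_left_cancel (mul_right_cancel h1)
    have hss' : s' * s' = 1 := by
      rw [← pow_two, ← hs2']
      exact pow_orderOf_eq_one s'
    have hst1 : s' * t' ≠ 1 := by
      intro h
      apply hne'
      rw [(inv_eq_of_mul_eq_one_right h).symm, inv_eq_of_mul_eq_one_left hss']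
    have hs1' : s' ≠ 1 := by
      intro h
      rw [h, orderOf_one] at hs2'
      omega
    have ht1' : t' ≠ 1 := by
      intro h
      rw [h, orderOf_one] at ht2'
      omega
    by_cases hYX : Y' = X
    · rw [hYX] at hsY' htY'
      exact hne' ((huniq s' hgs hsY' hs2').trans (huniq t' hgt htY' ht2').symm)
    · have hsX : s' ∉ X := fun h => hYX (hS.eq_of_mem Y' hY' X hX s' hs1' hsY' h)
      have htX : t' ∉ X := fun h => hYX (hS.eq_of_mem Y' hY' X hX t' ht1' htY' h)
      exact hYX (hS.eq_of_mem Y' hY' X hX (s' * t') hst1 (mul_mem hsY' htY')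
        (hidx s' hgs hsX t' hgt htX))

/-- The structure of a Sylow 2-subgroup outside of the components. -/
theorem IsPart.struct [Finite G] (hS : IsPart S) (heven : 2 ∣ Nat.card G)
    (hG : ∀ (f : G →* ℤˣ) (u : G), f u = 1)
    (T : Sylow 2 G) (hT : ∀ X ∈ S, ¬ (T : Subgroup G) ≤ X) :
    ((∀ x ∈ (T : Subgroup G), x * x = 1) ∧
      ∀ x ∈ (T : Subgroup G), x ≠ 1 → ∀ g : G, g * x = x * g → g ∈ (T : Subgroup G) ∧ g * g = 1) ∨
    ((∃ n : ℕ, 2 ≤ n ∧ Nonempty ((T : Subgroup G) ≃* DihedralGroup n)) ∧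
      ∀ Y ∈ S, ∀ s ∈ Y, ∀ t ∈ Y, orderOf s = 2 → orderOf t = 2 → s * t = t * s → s = t) := by
  by_cases hcase : ∃ z ∈ (T : Subgroup G), orderOf z = 2 ∧ (∀ t ∈ (T : Subgroup G), t * z = z * t) ∧
      ∃ X ∈ S, z ∈ X ∧ ∀ u ∈ (T : Subgroup G), u ∉ X → ∀ v ∈ (T : Subgroup G), v ∉ X → u * v ∈ X
  · right
    obtain ⟨z, hzT, hz2, hzc, X, hX, hzX, hidx⟩ := hcase
    exact hS.dihedral hG T hX hzT hzX hz2 hzc (hT X hX) hidx
  · left
    push Not at hcase
    -- centralisers of central involutions have exponent two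
    have key : ∀ z ∈ (T : Subgroup G), orderOf z = 2 → (∀ t ∈ (T : Subgroup G), t * z = z * t) →
        ∀ c : G, c * z = z * c → c * c = 1 := by
      intro z hzT hz2 hzc c hc
      have hz1 : z ≠ 1 := by
        rintro rfl
        rw [orderOf_one] at hz2
        omega
      obtain ⟨X, hX, hzX⟩ := hS.cover z hz1
      by_cases hcX : c ∈ X
      · obtain ⟨u, huT, huX, v, hvT, hvX, huv⟩ := hcase z hzT hz2 hzc X hX hzX
        have h1 := hS.inv_of_commute hX hzX hz2 huX (hzc u huT) hcX hc
        have h2 := hS.inv_of_commute hX hzX hz2 hvX (hzc v hvT) hcX hc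
        have h3 := hS.inv_of_commute hX hzX hz2 huv (hzc _ (mul_mem huT hvT)) hcX hc
        have h4 : u * v * c * (u * v)⁻¹ = u * (v * c * v⁻¹) * u⁻¹ := by group
        have h5 : u * c⁻¹ * u⁻¹ = (u * c * u⁻¹)⁻¹ := by group
        rw [h4, h2, h5, h1, inv_inv] at h3
        have h6 : c * c = c⁻¹ * c := by rw [← h3]
        rw [h6, inv_mul_cancel]
      · exact hS.sq_of_commute hX hzX hz2 hcX hc
    -- a central involution
    obtain ⟨z, hzT, hz2, hzc⟩ : ∃ z ∈ (T : Subgroup G), orderOf z = 2 ∧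
        ∀ t ∈ (T : Subgroup G), t * z = z * t := by
      have h2f : Fact (Nat.Prime 2) := ⟨Nat.prime_two⟩
      have h2T : 2 ∣ Nat.card (T : Subgroup G) := by
        have := T.card_eq_multiplicity
        rw [this]
        apply dvd_pow_self
        have := (Nat.Prime.factorization_pos_of_dvd Nat.prime_two (Nat.card_pos (α := G)).ne' heven)
        omega
      have hnt : Nontrivial (T : Subgroup G) := by
        rw [← Finite.one_lt_card_iff_nontrivial]
        exact lt_of_lt_of_le (by norm_num) (Nat.le_of_dvd Nat.card_pos h2T)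
      have hc := T.2.center_nontrivial
      have h2Z : 2 ∣ Nat.card (center (T : Subgroup G)) := by
        have hZ : IsPGroup 2 (center (T : Subgroup G)) := T.2.to_subgroup _
        obtain ⟨n, hn⟩ := IsPGroup.iff_card.1 hZ
        have h1 : 1 < Nat.card (center (T : Subgroup G)) := Finite.one_lt_card
        rw [hn] at h1 ⊢
        apply dvd_pow_self
        rintro rfl
        simp at h1
      obtain ⟨z, hz⟩ := exists_prime_orderOf_dvd_card' 2 h2Z
      refine ⟨((z : (T : Subgroup G)) : G), z.1.2, ?_, ?_⟩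
      · rw [orderOf_coe, orderOf_coe, hz]
      · intro t ht
        exact congrArg Subtype.val ((mem_center_iff.1 z.2) ⟨t, ht⟩)
    have hsq : ∀ x ∈ (T : Subgroup G), x * x = 1 := fun x hx => key z hzT hz2 hzc x (hzc x hx)
    have hcomm : ∀ x ∈ (T : Subgroup G), ∀ y ∈ (T : Subgroup G), x * y = y * x := by
      intro x hx y hy
      have h1 := hsq _ (mul_mem hx hy)
      have h2 := inv_eq_of_mul_eq_one_left (hsq x hx)
      have h3 := inv_eq_of_mul_eq_one_left (hsq y hy)
      have h4 : x * y = (x * y)⁻¹ := eq_inv_of_mul_eq_one_left h1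
      rw [mul_inv_rev, h2, h3] at h4
      exact h4
    refine ⟨hsq, fun x hx hx1 g hg => ?_⟩
    have hx2 : orderOf x = 2 := orderOf_eq_prime (by rw [pow_two]; exact hsq x hx) hx1
    have hkey := key x hx hx2 (fun t ht => hcomm t ht x hx)
    refine ⟨?_, hkey g hg⟩
    -- the centraliser of `x` is a 2-group containing `T`
    have h1 : IsPGroup 2 (centralizer ({x} : Set G)) := by
      rw [isPGroup_iff_pow_pow_eq_one]
      rintro ⟨c, hc⟩
      refine ⟨1, ?_⟩
      apply Subtype.ext
      change c ^ 2 ^ 1 = 1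
      rw [pow_one, pow_two]
      apply hkey
      have := mem_centralizer_singleton_iff.1 hc
      first
        | exact this
        | exact this.symm
    have h2 : (T : Subgroup G) ≤ centralizer ({x} : Set G) := by
      intro t ht
      rw [mem_centralizer_singleton_iff]
      first
        | exact hcomm t ht x hx
        | exact hcomm x hx t ht
    have h3 := T.3 h1 h2
    rw [← h3, mem_centralizer_singleton_iff]
    first
      | exact hg
      | exact hg.symm

end Cfsg.Agent.H550.Part
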