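import Mathlib
import Cfsg.Agent.H550.Part.Struct

/-!
# Invariant nilpotent partitions: a normal subgroup which is a Zassenhaus group of odd degree
-/

set_option autoImplicit false

namespace Cfsg.Agent.H550.Part

open Subgroup Cfsg.Agent.LieExceptional.CCEven

universe u

variable {G : Type u} [Group G] {S : Set (Subgroup G)} {N : Subgroup G}

theorem coe_mem_map {T : Subgroup N} {n : N} : (n : G) ∈ T.map N.subtype ↔ n ∈ T := by
  constructor
  · rintro ⟨t, ht, hte⟩
    have : t = n := Subtype.ext hte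
    exact this ▸ ht
  · intro h
    exact ⟨n, h, rfl⟩

theorem coe_mem_normalizer {T : Subgroup N} {n : N} :
    (n : G) ∈ normalizer ((T.map N.subtype : Subgroup G) : Set G) ↔
      n ∈ normalizer (T : Set N) := by
  rw [mem_normalizer_iff, mem_normalizer_iff]
  constructor
  · intro h t
    have h1 := h (t : G)
    have h2 : (n : G) * t * (n : G)⁻¹ = ((n * t * n⁻¹ : N) : G) := rfl
    rwa [h2, coe_mem_map, coe_mem_map] at h1
  · intro h t
    constructor
    · rintro ⟨s, hs, rfl⟩
      exact ⟨n * s * n⁻¹, (h s).1 hs, rfl⟩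
    · rintro ⟨s, hs, hse⟩
      have hse' : (s : G) = n * t * (n : G)⁻¹ := hse
      refine ⟨n⁻¹ * s * n, ?_, ?_⟩
      · apply (h _).2
        have : n * (n⁻¹ * s * n) * n⁻¹ = s := by group
        rwa [this]
      · change (n : G)⁻¹ * s * n = t
        rw [hse']
        group

theorem orderOf_odd_of_mem_D [Finite G] {T : Subgroup N} (hc : Conf T) {x : N}
    (hx : x ∉ normalizer (T : Set N)) {d : N} (hd : d ∈ D T x) : ¬ 2 ∣ orderOf d := by
  intro h2
  obtain ⟨k, hk⟩ := h2
  have hk0 : k ≠ 0 := by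
    rintro rfl
    have := orderOf_pos d
    omega
  have h1 : orderOf (d ^ k) = 2 := by
    rw [orderOf_pow_of_dvd hk0 ⟨2, by rw [hk, mul_comm]⟩, hk]
    exact Nat.mul_div_cancel _ (Nat.pos_of_ne_zero hk0)
  have h3 := pow_mem hd k
  have h4 := involution_mem hc (mem_D.1 h3).1 h1
  have h5 := D_inf hc hx h3 h4
  rw [h5, orderOf_one] at h1
  omega

/-- the configuration -/
structure Cfg (S : Set (Subgroup G)) (N : Subgroup G) (T : Sylow 2 N) (x z : N) : Prop where
  part : IsPart S
  nil : ∀ X ∈ S, Group.IsNilpotent X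
  conf : Conf (T : Subgroup N)
  ntop : normalizer ((T : Subgroup N) : Set N) ≠ ⊤
  two_le : 2 ≤ (T : Subgroup N).relIndex (normalizer ((T : Subgroup N) : Set N))
  inv : Inv (T : Subgroup N) x
  zT : z ∈ (T : Subgroup N)
  z2 : orderOf z = 2

variable {T : Sylow 2 N} {x z : N}

/-- the stabiliser of two points centralising an involution -/
def stab (T : Sylow 2 N) (x z : N) : Subgroup G :=
  normalizer (((T : Subgroup N).map N.subtype : Subgroup G) : Set G) ⊓
    (normalizer (((T : Subgroup N).map N.subtype : Subgroup G) : Set G)).comap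
      (MulAut.conj (x : G)⁻¹).toMonoidHom ⊓ centralizer ({(z : G)} : Set G)

theorem mem_stab {g : G} : g ∈ stab T x z ↔
    g ∈ normalizer (((T : Subgroup N).map N.subtype : Subgroup G) : Set G) ∧
    (x : G)⁻¹ * g * x ∈ normalizer (((T : Subgroup N).map N.subtype : Subgroup G) : Set G) ∧
    g * z = z * g := by
  rw [stab, mem_inf, mem_inf, mem_comap, and_assoc, mem_centralizer_singleton_iff]
  simp

theorem Cfg.z1 (C : Cfg S N T x z) : z ≠ 1 := by
  rintro rfl
  have := C.z2
  rw [orderOf_one] at this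
  omega

theorem Cfg.zG [Finite G] (C : Cfg S N T x z) : orderOf (z : G) = 2 := by
  rw [orderOf_coe, C.z2]

theorem Cfg.card_D [Finite G] (C : Cfg S N T x z) :
    Nat.card (D (T : Subgroup N) x) = Nat.card {u : N // u ∈ (T : Subgroup N) ∧ orderOf u = 2} := by
  rw [C.inv.card, (card_eq C.conf C.ntop).1]

/-- `D` is transitive on the involutions of `T`. -/
theorem Cfg.exists_D [Finite G] (C : Cfg S N T x z) {a : N} (ha : a ∈ (T : Subgroup N))
    (ha2 : orderOf a = 2) : ∃ d ∈ D (T : Subgroup N) x, d * z * d⁻¹ = a := by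
  classical
  let f : D (T : Subgroup N) x → {u : N // u ∈ (T : Subgroup N) ∧ orderOf u = 2} := fun d =>
    ⟨d * z * (d : N)⁻¹, (mem_normalizer_iff.1 (mem_D.1 d.2).1 z).1 C.zT,
      (orderOf_injective (MulAut.conj (d : N)).toMonoidHom
        (MulAut.conj (d : N)).injective z).trans C.z2⟩
  have hf : Function.Injective f := by
    intro d e hde
    have h1 : (d : N) * z * (d : N)⁻¹ = e * z * (e : N)⁻¹ := congrArg Subtype.val hde
    have h2 : ((e : N)⁻¹ * d) * z = z * ((e : N)⁻¹ * d) := by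
      have h3 : ((e : N)⁻¹ * d) * z = (e : N)⁻¹ * (d * z * (d : N)⁻¹) * d := by group
      rw [h3, h1]
      group
    have h3 := C.conf.cent z C.zT C.z1 _ h2
    have h4 := D_inf C.conf C.inv.notin (mul_mem (inv_mem e.2) d.2) h3
    exact Subtype.ext (inv_mul_eq_one.1 h4).symm
  have hfb : Function.Bijective f := by
    rw [Nat.bijective_iff_injective_and_card]
    exact ⟨hf, C.card_D⟩
  obtain ⟨d, hd⟩ := hfb.2 ⟨a, ha, ha2⟩
  exact ⟨d, d.2, congrArg Subtype.val hd⟩

theorem Cfg.exists_of_mem [Finite G] [hN : N.Normal] (C : Cfg S N T x z) {m : G}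
    (hm : m ∈ normalizer (((T : Subgroup N).map N.subtype : Subgroup G) : Set G)) :
    ∃ n : N, (n : G)⁻¹ * m ∈ stab T x z := by
  set TG : Subgroup G := (T : Subgroup N).map N.subtype with hTG
  set y : N := ⟨m * x * m⁻¹, hN.conj_mem x x.2 m⟩ with hy
  have hyG : (y : G) = m * x * m⁻¹ := rfl
  have hyn : y ∉ normalizer ((T : Subgroup N) : Set N) := by
    intro h
    rw [← coe_mem_normalizer, hyG] at h
    apply C.inv.notin
    rw [← coe_mem_normalizer]
    have h1 := mul_mem (mul_mem (inv_mem hm) h) hm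
    have h2 : m⁻¹ * (m * x * m⁻¹) * m = (x : G) := by group
    rwa [h2] at h1
  obtain ⟨k, hk, hkx⟩ := trans C.conf C.ntop C.two_le C.inv hyn
  have hkx' := QuotientGroup.eq.1 hkx
  rw [← coe_mem_normalizer] at hkx'
  have hkM : (k : G) ∈ normalizer (TG : Set G) := coe_mem_normalizer.2 (le_normalizer hk)
  have h1 : (x : G)⁻¹ * ((k : G)⁻¹ * m) * x ∈ normalizer (TG : Set G) := by
    have h2 : (x : G)⁻¹ * ((k : G)⁻¹ * m) * x = (((k * x)⁻¹ * y : N) : G) * m := by
      change _ = ((k : G) * x)⁻¹ * (m * x * m⁻¹) * m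
      group
    rw [h2]
    exact mul_mem hkx' hm
  have h2 : (k : G)⁻¹ * m ∈ normalizer (TG : Set G) := mul_mem (inv_mem hkM) hm
  set m' : G := (k : G)⁻¹ * m with hm'
  set z' : N := ⟨m' * z * m'⁻¹, hN.conj_mem z z.2 m'⟩ with hz'
  have hz'T : z' ∈ (T : Subgroup N) := by
    rw [← coe_mem_map]
    exact (mem_normalizer_iff.1 h2 z).1 (coe_mem_map.2 C.zT)
  have hz'2 : orderOf z' = 2 := by
    rw [← orderOf_coe, ← C.z2, ← orderOf_coe]
    exact orderOf_injective (MulAut.conj m').toMonoidHom (MulAut.conj m').injective (z : G)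
  obtain ⟨d, hd, hdz⟩ := C.exists_D hz'T hz'2
  have hdM := coe_mem_normalizer.2 (mem_D.1 hd).1
  have hdM' := coe_mem_normalizer.2 (mem_D.1 hd).2
  refine ⟨k * d, ?_⟩
  have h3 : (((k * d : N) : G))⁻¹ * m = (d : G)⁻¹ * m' := by
    change ((k : G) * d)⁻¹ * m = _
    rw [hm']
    group
  rw [h3, mem_stab]
  refine ⟨mul_mem (inv_mem hdM) h2, ?_, ?_⟩
  · have h4 : (x : G)⁻¹ * ((d : G)⁻¹ * m') * x =
        (((x⁻¹ * d * x : N) : G))⁻¹ * ((x : G)⁻¹ * m' * x) := by
      change _ = ((x : G)⁻¹ * d * x)⁻¹ * _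
      group
    rw [h4]
    exact mul_mem (inv_mem hdM') h1
  · have h5 : (d : G) * z * (d : G)⁻¹ = m' * z * m'⁻¹ := congrArg Subtype.val hdz
    have h6 : (z : G) = (d : G)⁻¹ * (m' * z * m'⁻¹) * d := by
      rw [← h5]
      group
    calc (d : G)⁻¹ * m' * z = (d : G)⁻¹ * (m' * z * m'⁻¹) * d * ((d : G)⁻¹ * m') := by group
      _ = z * ((d : G)⁻¹ * m') := by rw [← h6]

theorem Cfg.sup_eq_top [Finite G] [hN : N.Normal] (C : Cfg S N T x z) :
    N ⊔ stab T x z = ⊤ := by
  rw [eq_top_iff]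
  intro γ _
  have hfr := Sylow.normalizer_sup_eq_top T
  have h1 : γ ∈ (normalizer (((T : Subgroup N).map N.subtype : Subgroup G) : Set G)) ⊔ N := by
    have h2 : γ ∈ (⊤ : Subgroup G) := mem_top γ
    rw [← hfr] at h2
    exact h2
  rw [sup_comm, mem_sup_of_normal_left] at h1
  obtain ⟨n, hn, m, hm, rfl⟩ := h1
  obtain ⟨k, hk⟩ := C.exists_of_mem hm
  have h3 : n * m = n * k * ((k : G)⁻¹ * m) := by group
  rw [h3]
  exact mul_mem_sup (mul_mem hn k.2) hk

/-- no element of odd prime order in the stabiliser -/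
theorem Cfg.prime_two [Finite G] [hN : N.Normal] (C : Cfg S N T x z) {g : G}
    (hg : g ∈ stab T x z) {r : ℕ} (hr : r.Prime) (hgr : orderOf g = r) : r = 2 := by
  by_contra hr2
  obtain ⟨hg1, hg2, hg3⟩ := mem_stab.1 hg
  have hg0 : g ≠ 1 := by
    rintro rfl
    rw [orderOf_one] at hgr
    exact hr.one_lt.ne hgr
  obtain ⟨Y, hY, hgY⟩ := C.part.cover g hg0
  have hzY : (z : G) ∈ Y := by
    apply C.part.mem_of_commute hY hgY hg0 hg3
    rw [C.zG, hgr]
    exact Ne.symm hr2
  -- the element `t'`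
  have hxx : x * x = 1 := by
    rw [← pow_two, ← C.inv.ord]
    exact pow_orderOf_eq_one x
  have hxi : x⁻¹ = x := inv_eq_of_mul_eq_one_left hxx
  have hzx : z * x ∉ normalizer ((T : Subgroup N) : Set N) := by
    intro h
    apply C.inv.notin
    have h1 := mul_mem (inv_mem (le_normalizer C.zT : z ∈ normalizer ((T : Subgroup N) : Set N))) h
    have h2 : z⁻¹ * (z * x) = x := by group
    rwa [h2] at h1
  have hxzx : x * z * x ∉ normalizer ((T : Subgroup N) : Set N) := by
    intro h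
    apply C.z1
    apply inter_trivial C.conf C.inv.notin C.zT
    rw [hxi]
    exact h
  obtain ⟨k, hk, hkx⟩ := trans C.conf C.ntop C.two_le C.inv hxzx
  have hkx' := QuotientGroup.eq.1 hkx
  -- `hkx' : (k * x)⁻¹ * (x * z * x) ∈ N(T)`
  set t' : N := x * k * x⁻¹ with ht'
  have ht'k : (z * x)⁻¹ * t' ∈ normalizer ((T : Subgroup N) : Set N) := by
    have h1 := inv_mem hkx'
    have h2 : ((k * x)⁻¹ * (x * z * x))⁻¹ = (z * x)⁻¹ * t' := by
      have h3 : ((k * x)⁻¹ * (x * z * x))⁻¹ = (z * x)⁻¹ * (x⁻¹ * k * x) := by group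
      rw [h3, ht']
      conv_lhs => rw [hxi]
      conv_rhs => rw [hxi]
    rwa [h2] at h1
  have hk1 : k ≠ 1 := by
    rintro rfl
    apply hzx
    rw [ht', mul_one, mul_inv_cancel, mul_one] at ht'k
    simpa using inv_mem ht'k
  have ht'1 : t' ≠ 1 := by
    intro h
    apply hk1
    exact conj_eq_one_iff.1 h
  -- `g` commutes with `t'`
  set α : MulAut N := MulAut.conjNormal g with hα
  have hαG : ∀ n : N, ((α n : N) : G) = g * n * g⁻¹ := fun n => MulAut.conjNormal_apply g n
  have hαT : ∀ n : N, n ∈ normalizer ((T : Subgroup N) : Set N) →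
      α n ∈ normalizer ((T : Subgroup N) : Set N) := by
    intro n hn
    rw [← coe_mem_normalizer, hαG]
    exact mul_mem (mul_mem hg1 (coe_mem_normalizer.2 hn)) (inv_mem hg1)
  have hαx : x⁻¹ * α x ∈ normalizer ((T : Subgroup N) : Set N) := by
    rw [← coe_mem_normalizer]
    have h1 : ((x⁻¹ * α x : N) : G) = (x : G)⁻¹ * g * x * g⁻¹ := by
      change (x : G)⁻¹ * ((α x : N) : G) = _
      rw [hαG]
      group
    rw [h1]
    exact mul_mem hg2 (inv_mem hg1)
  have hαz : α z = z := by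
    apply Subtype.ext
    rw [hαG, hg3, mul_inv_cancel_right]
  have hαt : t'⁻¹ * α t' = 1 := by
    -- it lies in `x T x⁻¹` and in `N(T)`
    have h1 : (z * x)⁻¹ * α t' ∈ normalizer ((T : Subgroup N) : Set N) := by
      have h2 := hαT _ ht'k
      rw [map_mul, map_inv, map_mul, hαz] at h2
      have h3 : (z * x)⁻¹ * α t' = (x⁻¹ * α x) * ((z * α x)⁻¹ * α t') := by group
      rw [h3]
      exact mul_mem hαx h2
    have h2 : t'⁻¹ * α t' ∈ normalizer ((T : Subgroup N) : Set N) := by
      have h3 : t'⁻¹ * α t' = ((z * x)⁻¹ * t')⁻¹ * ((z * x)⁻¹ * α t') := by group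
      rw [h3]
      exact mul_mem (inv_mem ht'k) h1
    have h4 : x⁻¹ * (t'⁻¹ * α t') * x ∈ (T : Subgroup N) := by
      have h5 : x⁻¹ * α t' * x ∈ (T : Subgroup N) := by
        have h6 : x⁻¹ * α t' * x = (x⁻¹ * α x) * α k * (x⁻¹ * α x)⁻¹ := by
          rw [ht', map_mul, map_mul, map_inv]
          group
        rw [h6]
        refine (mem_normalizer_iff.1 hαx _).1 ?_
        rw [← coe_mem_map, hαG]
        exact (mem_normalizer_iff.1 hg1 _).1 (coe_mem_map.2 hk)
      have h7 : x⁻¹ * (t'⁻¹ * α t') * x = k⁻¹ * (x⁻¹ * α t' * x) := by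
        rw [ht']
        group
      rw [h7]
      exact mul_mem (inv_mem hk) h5
    have h8 := inter_trivial C.conf C.inv.notin h4 (by
      have h9 : x⁻¹ * (x⁻¹ * (t'⁻¹ * α t') * x) * x = t'⁻¹ * α t' := by
        have h10 : x⁻¹ * (x⁻¹ * (t'⁻¹ * α t') * x) * x =
          (x * x)⁻¹ * (t'⁻¹ * α t') * (x * x) := by group
        rw [h10, hxx]
        group
      rw [h9]
      exact h2)
    have h11 : t'⁻¹ * α t' = x * (x⁻¹ * (t'⁻¹ * α t') * x) * x⁻¹ := by group
    rw [h11, h8, mul_one, mul_inv_cancel]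
  have hgt : g * t' = t' * g := by
    have h1 : α t' = t' := (inv_mul_eq_one.1 hαt).symm
    have h2 := hαG t'
    rw [h1] at h2
    exact (mul_inv_eq_iff_eq_mul.1 h2.symm)
  -- `t'` is a 2-element
  have ht'p : ∃ j : ℕ, t' ^ 2 ^ j = 1 := by
    obtain ⟨j, hj⟩ := (isPGroup_iff_pow_pow_eq_one.1 T.2) ⟨k, hk⟩
    refine ⟨j, ?_⟩
    have hj' : k ^ 2 ^ j = 1 := congrArg Subtype.val hj
    rw [ht', conj_pow, hj', mul_one, mul_inv_cancel]
  have ht'Y : (t' : G) ∈ Y := by
    apply C.part.mem_of_commute hY hgY hg0 hgt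
    rw [orderOf_coe, hgr]
    intro h
    obtain ⟨j, hj⟩ := ht'p
    have h1 := orderOf_dvd_of_pow_eq_one hj
    rw [h] at h1
    exact hr2 ((Nat.prime_dvd_prime_iff_eq hr Nat.prime_two).1 (hr.dvd_of_dvd_pow h1))
  have h2f : Fact (Nat.Prime 2) := ⟨Nat.prime_two⟩
  obtain ⟨P, hPY, hP2, hPmem, -⟩ := nil_pPart 2 (C.nil Y hY)
  have hzP : (z : G) ∈ P := hPmem _ hzY ⟨1, by rw [pow_one, ← C.zG]; exact pow_orderOf_eq_one _⟩
  have ht'P : (t' : G) ∈ P := by
    refine hPmem _ ht'Y ?_
    obtain ⟨j, hj⟩ := ht'p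
    exact ⟨j, by rw [← Subgroup.coe_pow, hj]; rfl⟩
  have hPN : IsPGroup 2 (P.subgroupOf N) := hP2.comap_subtype
  obtain ⟨Q, hQ⟩ := hPN.exists_le_sylow
  obtain ⟨n, hn⟩ := MulAction.exists_smul_eq N T Q
  have hzQ : z ∈ (Q : Subgroup N) := hQ (mem_subgroupOf.2 hzP)
  have ht'Q : t' ∈ (Q : Subgroup N) := hQ (mem_subgroupOf.2 ht'P)
  have hQT : Q = T := by
    rw [← hn] at hzQ
    obtain ⟨s, hs, hsz⟩ := hzQ
    have hsz' : n * s * n⁻¹ = z := hsz
    have hs1 : s ≠ 1 := by
      rintro rfl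
      rw [mul_one, mul_inv_cancel] at hsz'
      exact C.z1 hsz'.symm
    have h1 := C.conf.ti s hs hs1 n (by rw [hsz']; exact C.zT)
    rw [← hn]
    exact Sylow.smul_eq_iff_mem_normalizer.2 h1
  rw [hQT] at ht'Q
  exact C.inv.notin (C.conf.ti k hk hk1 x ht'Q)

/-- an involution in the stabiliser: at most three involutions in `T` -/
theorem Cfg.card_le [Finite G] [hN : N.Normal] (C : Cfg S N T x z) {g : G}
    (hg : g ∈ stab T x z) (hg2 : orderOf g = 2) :
    Nat.card {u : N // u ∈ (T : Subgroup N) ∧ orderOf u = 2} ≤ 3 := by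
  classical
  obtain ⟨hg1, hgx, hgz⟩ := mem_stab.1 hg
  have hg0 : g ≠ 1 := by
    rintro rfl
    rw [orderOf_one] at hg2
    omega
  have hgg : g * g = 1 := by
    rw [← pow_two, ← hg2]
    exact pow_orderOf_eq_one g
  obtain ⟨Y, hY, hgY⟩ := C.part.cover g hg0
  set α : MulAut N := MulAut.conjNormal g with hα
  have hαG : ∀ n : N, ((α n : N) : G) = g * n * g⁻¹ := fun n => MulAut.conjNormal_apply g n
  have hαα : ∀ n : N, α (α n) = n := by
    intro n
    apply Subtype.ext
    rw [hαG, hαG]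
    have h1 : g * (g * n * g⁻¹) * g⁻¹ = (g * g) * n * (g * g)⁻¹ := by group
    rw [h1, hgg]
    group
  have hαT : ∀ n ∈ (T : Subgroup N), α n ∈ (T : Subgroup N) := by
    intro n hn
    rw [← coe_mem_map, hαG]
    exact (mem_normalizer_iff.1 hg1 _).1 (coe_mem_map.2 hn)
  have hαz : α z = z := by
    apply Subtype.ext
    rw [hαG, hgz, mul_inv_cancel_right]
  -- `g` has no fixed points on `D`
  have hD : ∀ d ∈ D (T : Subgroup N) x, α d = d → d = 1 := by
    intro d hd hαd
    by_contra hd1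
    have hdg : g * d = d * g := by
      have h2 := hαG d
      rw [hαd] at h2
      exact mul_inv_eq_iff_eq_mul.1 h2.symm
    have hdodd := orderOf_odd_of_mem_D C.conf C.inv.notin hd
    have hdY : (d : G) ∈ Y := by
      apply C.part.mem_of_commute hY hgY hg0 hdg
      rw [orderOf_coe, hg2]
      intro h
      exact hdodd (by rw [h])
    have hdT : d ∉ (T : Subgroup N) := fun h => hd1 (D_inf C.conf C.inv.notin hd h)
    have hwT : z * d ∉ (T : Subgroup N) := fun h => hdT ((mul_mem_cancel_left C.zT).1 h)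
    have hwn : z * d ∈ normalizer ((T : Subgroup N) : Set N) :=
      mul_mem (le_normalizer C.zT) (mem_D.1 hd).1
    obtain ⟨k, hk, hkw⟩ := exists_conj_D C.conf C.inv hwn hwT
    have hwodd := orderOf_odd_of_mem_D C.conf C.inv.notin hkw
    have hword : orderOf (k⁻¹ * (z * d) * k) = orderOf (z * d) := by
      have := orderOf_injective (MulAut.conj k⁻¹).toMonoidHom (MulAut.conj k⁻¹).injective (z * d)
      rw [← this]
      congr 1
      change _ = k⁻¹ * (z * d) * k⁻¹⁻¹
      rw [inv_inv]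
    rw [hword] at hwodd
    have hwg : g * ((z * d : N) : G) = ((z * d : N) : G) * g := by
      change g * ((z : G) * d) = (z : G) * d * g
      rw [← mul_assoc, hgz, mul_assoc, hdg, mul_assoc]
    have hwY : ((z * d : N) : G) ∈ Y := by
      apply C.part.mem_of_commute hY hgY hg0 hwg
      rw [orderOf_coe, hg2]
      intro h
      exact hwodd (by rw [h])
    have hzY : (z : G) ∈ Y := (mul_mem_cancel_right hdY).1 hwY
    have hcomm := Cfsg.Agent.OddOrderLocal.CNBasic.commute_of_mem_of_coprime (C.nil Y hY) hzY hdY (by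
      rw [C.zG, orderOf_coe]
      exact (Nat.Prime.coprime_iff_not_dvd Nat.prime_two).2 hdodd)
    have hcomm' : d * z = z * d := Subtype.ext hcomm.symm
    exact hdT (C.conf.cent z C.zT C.z1 d hcomm')
  -- `z` is the only involution of `T` fixed by `g`
  have hfix : ∀ a ∈ (T : Subgroup N), orderOf a = 2 → α a = a → a = z := by
    intro a ha ha2 hαa
    obtain ⟨d, hd, hdz⟩ := C.exists_D ha ha2
    have hαD : α d ∈ D (T : Subgroup N) x := by
      rw [mem_D, ← coe_mem_normalizer, ← coe_mem_normalizer, hαG]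
      refine ⟨mul_mem (mul_mem hg1 (coe_mem_normalizer.2 (mem_D.1 hd).1)) (inv_mem hg1), ?_⟩
      have h1 : ((x⁻¹ * α d * x : N) : G) =
          ((x : G)⁻¹ * g * x) * ((x⁻¹ * d * x : N) : G) * ((x : G)⁻¹ * g * x)⁻¹ := by
        change (x : G)⁻¹ * ((α d : N) : G) * x =
          ((x : G)⁻¹ * g * x) * ((x : G)⁻¹ * d * x) * ((x : G)⁻¹ * g * x)⁻¹
        rw [hαG]
        group
      rw [h1]
      exact mul_mem (mul_mem hgx (coe_mem_normalizer.2 (mem_D.1 hd).2)) (inv_mem hgx)
    have h1 : α d * z * (α d)⁻¹ = d * z * d⁻¹ := by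
      rw [hdz]
      conv_rhs => rw [← hαa, ← hdz, map_mul, map_mul, map_inv, hαz]
    have h2 : (d⁻¹ * α d) * z = z * (d⁻¹ * α d) := by
      have h3 : (d⁻¹ * α d) * z = d⁻¹ * (α d * z * (α d)⁻¹) * α d := by group
      rw [h3, h1]
      group
    have h3 := C.conf.cent z C.zT C.z1 _ h2
    have h4 := D_inf C.conf C.inv.notin (mul_mem (inv_mem hd) hαD) h3
    have h5 : α d = d := (inv_mul_eq_one.1 h4).symm
    have h6 := hD d hd h5
    rw [← hdz, h6, one_mul, inv_one, mul_one]
  -- involutions of `T` are central in `T`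
  have hcen : ∀ a ∈ (T : Subgroup N), orderOf a = 2 → ∀ b ∈ (T : Subgroup N), a * b = b * a := by
    have h2f : Fact (Nat.Prime 2) := ⟨Nat.prime_two⟩
    have hnt : Nontrivial (T : Subgroup N) :=
      ⟨⟨⟨z, C.zT⟩, 1, fun h => C.z1 (congrArg Subtype.val h)⟩⟩
    have hc := T.2.center_nontrivial
    have h2Z : 2 ∣ Nat.card (center (T : Subgroup N)) := by
      have hZ : IsPGroup 2 (center (T : Subgroup N)) := T.2.to_subgroup _
      obtain ⟨n, hn⟩ := IsPGroup.iff_card.1 hZ
      have h1 : 1 < Nat.card (center (T : Subgroup N)) := Finite.one_lt_card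
      rw [hn] at h1 ⊢
      apply dvd_pow_self
      rintro rfl
      simp at h1
    obtain ⟨c, hc2⟩ := exists_prime_orderOf_dvd_card' 2 h2Z
    have hcT : ((c : (T : Subgroup N)) : N) ∈ (T : Subgroup N) := c.1.2
    have hco : orderOf ((c : (T : Subgroup N)) : N) = 2 := by
      rw [orderOf_coe, orderOf_coe, hc2]
    have hccen : ∀ t ∈ (T : Subgroup N), t * ((c : (T : Subgroup N)) : N) =
        ((c : (T : Subgroup N)) : N) * t := by
      intro t ht
      exact congrArg Subtype.val ((mem_center_iff.1 c.2) ⟨t, ht⟩)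
    -- `z` is central
    have hconj : ∀ d : N, d ∈ normalizer ((T : Subgroup N) : Set N) → ∀ a : N,
        (∀ b ∈ (T : Subgroup N), a * b = b * a) →
        ∀ b ∈ (T : Subgroup N), (d * a * d⁻¹) * b = b * (d * a * d⁻¹) := by
      intro d hd a ha b hb
      have h1 : d⁻¹ * b * d ∈ (T : Subgroup N) := by
        have := (mem_normalizer_iff.1 (inv_mem hd) b).1 hb
        rwa [inv_inv] at this
      have h2 := ha _ h1
      calc d * a * d⁻¹ * b = d * (a * (d⁻¹ * b * d)) * d⁻¹ := by group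
        _ = d * ((d⁻¹ * b * d) * a) * d⁻¹ := by rw [h2]
        _ = b * (d * a * d⁻¹) := by group
    obtain ⟨d, hd, hdz⟩ := C.exists_D hcT hco
    have hz : ∀ b ∈ (T : Subgroup N), z * b = b * z := by
      have h1 : z = d⁻¹ * ((c : (T : Subgroup N)) : N) * d⁻¹⁻¹ := by
        rw [← hdz]
        group
      rw [h1]
      exact hconj d⁻¹ (inv_mem (mem_D.1 hd).1) _ (fun b hb => (hccen b hb).symm)
    intro a ha ha2
    obtain ⟨e, he, hez⟩ := C.exists_D ha ha2
    rw [← hez]
    exact hconj e (mem_D.1 he).1 z hz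
  have hsq : ∀ a : N, orderOf a = 2 → a * a = 1 := by
    intro a ha
    rw [← pow_two, ← ha]
    exact pow_orderOf_eq_one a
  -- `g` acts on the involutions other than `z` as multiplication by `z`
  have hact : ∀ a ∈ (T : Subgroup N), orderOf a = 2 → a ≠ z → α a = a * z := by
    intro a ha ha2 haz
    have hαa2 : orderOf (α a) = 2 := by
      rw [MulEquiv.orderOf_eq, ha2]
    have h1 : a * α a ≠ 1 := by
      intro h
      have h2 : α a = a := by
        rw [← inv_eq_of_mul_eq_one_right h]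
        exact inv_eq_of_mul_eq_one_left (hsq a ha2)
      exact haz (hfix a ha ha2 h2)
    have hcaa := hcen a ha ha2 (α a) (hαT a ha)
    have h2 : orderOf (a * α a) = 2 := by
      refine orderOf_eq_prime ?_ h1
      rw [pow_two]
      calc a * α a * (a * α a) = a * (α a * a) * α a := by group
        _ = (a * a) * (α a * α a) := by rw [← hcaa]; group
        _ = 1 := by rw [hsq a ha2, hsq _ hαa2, one_mul]
    have h3 : α (a * α a) = a * α a := by
      rw [map_mul, hαα, hcaa]
    have h4 := hfix _ (mul_mem ha (hαT a ha)) h2 h3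
    have h5 : α a = a⁻¹ * z := by rw [← h4]; group
    rw [h5, inv_eq_of_mul_eq_one_left (hsq a ha2)]
  have hle : ∀ a ∈ (T : Subgroup N), orderOf a = 2 → a ≠ z → ∀ b ∈ (T : Subgroup N),
      orderOf b = 2 → b ≠ z → b = a ∨ b = a * z := by
    intro a ha ha2 haz b hb hb2 hbz
    by_contra hcon
    push Not at hcon
    obtain ⟨hba, hbaz⟩ := hcon
    have hcab := hcen a ha ha2 b hb
    have hcaz := hcen a ha ha2 z C.zT
    have hzz := hsq z C.z2
    have hab1 : a * b ≠ 1 := by
      intro h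
      apply hba
      rw [← inv_eq_of_mul_eq_one_right h]
      exact inv_eq_of_mul_eq_one_left (hsq a ha2)
    have hab2 : orderOf (a * b) = 2 := by
      refine orderOf_eq_prime ?_ hab1
      rw [pow_two]
      calc a * b * (a * b) = a * (b * a) * b := by group
        _ = (a * a) * (b * b) := by rw [← hcab]; group
        _ = 1 := by rw [hsq a ha2, hsq b hb2, one_mul]
    have habz : a * b ≠ z := by
      intro h
      apply hbaz
      rw [← h, ← mul_assoc, hsq a ha2, one_mul]
    have h1 := hact _ (mul_mem ha hb) hab2 habz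
    rw [map_mul, hact a ha ha2 haz, hact b hb hb2 hbz] at h1
    have h2 : a * z * (b * z) = a * b := by
      have h3 := hcen z C.zT C.z2 b hb
      calc a * z * (b * z) = a * (z * b) * z := by group
        _ = a * b * (z * z) := by rw [h3]; group
        _ = a * b := by rw [hzz, mul_one]
    rw [h2] at h1
    exact C.z1 (by simpa using h1.symm)
  -- counting
  by_cases hex : ∃ a ∈ (T : Subgroup N), orderOf a = 2 ∧ a ≠ z
  · obtain ⟨a, ha, ha2, haz⟩ := hex
    have hsub : {u : N | u ∈ (T : Subgroup N) ∧ orderOf u = 2} ⊆ {z, a, a * z} := by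
      rintro b ⟨hb, hb2⟩
      by_cases hbz : b = z
      · exact Or.inl hbz
      · exact Or.inr (hle a ha ha2 haz b hb hb2 hbz)
    have h1 := Set.ncard_le_ncard hsub (Set.toFinite _)
    have h2 : ({z, a, a * z} : Set N).ncard ≤ 3 := by
      refine (Set.ncard_insert_le _ _).trans ?_
      refine Nat.succ_le_succ ((Set.ncard_insert_le _ _).trans ?_)
      rw [Set.ncard_singleton]
    exact h1.trans h2
  · push Not at hex
    have hsub : {u : N | u ∈ (T : Subgroup N) ∧ orderOf u = 2} ⊆ {z} := by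
      rintro b ⟨hb, hb2⟩
      exact hex b hb hb2
    have h1 := Set.ncard_le_ncard hsub (Set.toFinite _)
    rw [Set.ncard_singleton] at h1
    exact le_trans h1 (by norm_num)

/-- **The even case**: `N = G`, or `T` has at most three involutions. -/
theorem Cfg.main [Finite G] [hN : N.Normal] (C : Cfg S N T x z) :
    N = ⊤ ∨ Nat.card {u : N // u ∈ (T : Subgroup N) ∧ orderOf u = 2} ≤ 3 := by
  by_cases hst : (stab T x z : Subgroup G) = ⊥
  · left
    have h1 := C.sup_eq_top
    rwa [hst, sup_bot_eq] at h1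
  · right
    have h1 : Nat.card (stab T x z : Subgroup G) ≠ 1 := fun h =>
      hst (Subgroup.eq_bot_of_card_eq _ h)
    obtain ⟨r, hr, hrd⟩ := Nat.exists_prime_and_dvd h1
    obtain ⟨g, hg, hgr⟩ := exists_prime_order_mem hr hrd
    have hr2 := C.prime_two hg hr hgr
    exact C.card_le hg (hgr.trans hr2)

end Cfsg.Agent.H550.Part
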