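import Mathlib
import Cfsg.Prelude.Def_Exceptional
import Cfsg.Agent.H550.Part.Even
import Cfsg.Agent.ClassicalGeometry.PSL2Basic

/-!
# Numerical exclusion of the case of three involutions
-/

set_option autoImplicit false

namespace Cfsg.Agent.H550.Part

open Subgroup Cfsg.Agent.LieExceptional.CCEven

theorem pow_two_unique {i j u v : ℕ} (hu : Odd u) (hv : Odd v) (h : 2 ^ i * u = 2 ^ j * v) :
    i = j := by
  have key : ∀ i j u v : ℕ, Odd u → Odd v → 2 ^ i * u = 2 ^ j * v → i ≤ j := by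
    intro i j u v hu hv h
    by_contra hlt
    push Not at hlt
    obtain ⟨k, rfl⟩ := Nat.exists_eq_add_of_lt hlt
    have h1 : 2 ^ (j + k + 1) * u = 2 ^ j * (2 * (2 ^ k * u)) := by ring
    rw [h1] at h
    have h2 := Nat.eq_of_mul_eq_mul_left (pow_pos (by norm_num) j) h
    rw [← h2] at hv
    exact (Nat.not_odd_iff_even.2 (even_two_mul _)) hv
  exact le_antisymm (key i j u v hu hv h) (key j i v u hv hu h.symm)

theorem num_suzuki {k m : ℕ} (hm : 1 ≤ m) :
    2 ^ k * 3 * (2 ^ k + 1) ≠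
      (2 ^ (2 * m + 1)) ^ 2 * ((2 ^ (2 * m + 1)) ^ 2 + 1) * (2 ^ (2 * m + 1) - 1) := by
  intro h
  by_cases hk : k = 0
  · subst hk
    have h8 : 8 ≤ 2 ^ (2 * m + 1) := by
      calc 8 = 2 ^ 3 := by norm_num
        _ ≤ 2 ^ (2 * m + 1) := Nat.pow_le_pow_right (by norm_num) (by omega)
    set Q := 2 ^ (2 * m + 1) with hQ
    have h1 : 1 ≤ (Q - 1) := by omega
    have h2 : 64 ≤ Q ^ 2 := by nlinarith
    have h3 : 64 ≤ Q ^ 2 * (Q ^ 2 + 1) * (Q - 1) := by
      calc 64 = 64 * 1 * 1 := by norm_num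
        _ ≤ Q ^ 2 * (Q ^ 2 + 1) * (Q - 1) :=
          Nat.mul_le_mul (Nat.mul_le_mul h2 (by omega)) h1
    omega
  · set Q := 2 ^ (2 * m + 1) with hQ
    have hQe : Even Q := by
      rw [hQ, pow_succ]
      exact even_two.mul_left _
    have hQ8 : 8 ≤ Q := by
      calc 8 = 2 ^ 3 := by norm_num
        _ ≤ 2 ^ (2 * m + 1) := Nat.pow_le_pow_right (by norm_num) (by omega)
    have h1 : 2 ^ k * (3 * (2 ^ k + 1)) = 2 ^ (2 * (2 * m + 1)) * ((Q ^ 2 + 1) * (Q - 1)) := by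
      have h2 : 2 ^ (2 * (2 * m + 1)) = Q ^ 2 := by rw [hQ, ← pow_mul, mul_comm]
      rw [h2, ← mul_assoc, ← mul_assoc]
      exact h
    have hodd1 : Odd (3 * (2 ^ k + 1)) := by
      refine Odd.mul (by decide) (Even.add_one ?_)
      obtain ⟨j, rfl⟩ := Nat.exists_eq_succ_of_ne_zero hk
      rw [pow_succ]
      exact even_two.mul_left _
    have hodd2 : Odd ((Q ^ 2 + 1) * (Q - 1)) := by
      refine Odd.mul (Even.add_one (hQe.pow_of_ne_zero (by norm_num))) ?_
      obtain ⟨c, hc⟩ := hQe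
      exact ⟨c - 1, by omega⟩
    have h3 := pow_two_unique hodd1 hodd2 h1
    rw [h3] at h1
    have h4 := Nat.eq_of_mul_eq_mul_left (pow_pos (by norm_num) _) h1
    have h5 : 2 ^ (2 * (2 * m + 1)) = Q ^ 2 := by rw [hQ, ← pow_mul, mul_comm]
    rw [h5, mul_comm 3] at h4
    have h6 := Nat.eq_of_mul_eq_mul_left (by positivity) h4
    omega

theorem num_even {k f : ℕ} (hk : 3 ≤ k) :
    2 ^ k * 3 * (2 ^ k + 1) ≠ 2 ^ f * ((2 ^ f) ^ 2 - 1) := by
  intro h
  by_cases hf : f = 0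
  · subst hf
    have : 0 < 2 ^ k * 3 * (2 ^ k + 1) := by positivity
    omega
  have hodd1 : Odd (3 * (2 ^ k + 1)) := by
    refine Odd.mul (by decide) (Even.add_one ?_)
    obtain ⟨j, rfl⟩ := Nat.exists_eq_succ_of_ne_zero (show k ≠ 0 by omega)
    rw [pow_succ]
    exact even_two.mul_left _
  have hfe : Even (2 ^ f) := by
    obtain ⟨j, rfl⟩ := Nat.exists_eq_succ_of_ne_zero hf
    rw [pow_succ]
    exact even_two.mul_left _
  have hpos : 1 ≤ 2 ^ f := Nat.one_le_two_pow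
  have hodd2 : Odd ((2 ^ f) ^ 2 - 1) := by
    have h1 : Even ((2 ^ f) ^ 2) := hfe.pow_of_ne_zero (by norm_num)
    obtain ⟨c, hc⟩ := h1
    have : 1 ≤ (2 ^ f) ^ 2 := Nat.one_le_pow _ _ (by omega)
    exact ⟨c - 1, by omega⟩
  have h3 := pow_two_unique hodd1 hodd2 (by rw [← mul_assoc]; exact h)
  rw [h3, mul_assoc] at h
  have h4 := Nat.eq_of_mul_eq_mul_left (by positivity) h
  have h5 : (2 ^ f) ^ 2 - 1 = (2 ^ f + 1) * (2 ^ f - 1) := by
    have := Nat.sq_sub_sq (2 ^ f) 1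
    rw [one_pow] at this
    exact this
  rw [h5, mul_comm 3] at h4
  have h6 := Nat.eq_of_mul_eq_mul_left (by positivity) h4
  have h7 : 8 ≤ 2 ^ f := by
    calc 8 = 2 ^ 3 := by norm_num
      _ ≤ 2 ^ f := Nat.pow_le_pow_right (by norm_num) (by omega)
  omega

theorem num_odd {k q : ℕ} (hk : 3 ≤ k) (hq : Odd q) :
    2 ^ k * 3 * (2 ^ k + 1) * 2 ≠ q * (q ^ 2 - 1) := by
  intro h
  obtain ⟨s, rfl⟩ := hq
  have h1 : (2 * s + 1) ^ 2 - 1 = 4 * (s * (s + 1)) := by
    have : (2 * s + 1) ^ 2 = 4 * (s * (s + 1)) + 1 := by ring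
    omega
  rw [h1] at h
  obtain ⟨j, rfl⟩ : ∃ j, k = j + 1 := ⟨k - 1, by omega⟩
  have h2 : 2 ^ j * (3 * (2 ^ (j + 1) + 1)) = (2 * s + 1) * (s * (s + 1)) := by
    have h3 : 2 ^ (j + 1) * 3 * (2 ^ (j + 1) + 1) * 2 =
        4 * (2 ^ j * (3 * (2 ^ (j + 1) + 1))) := by ring
    have h4 : (2 * s + 1) * (4 * (s * (s + 1))) = 4 * ((2 * s + 1) * (s * (s + 1))) := by ring
    rw [h3, h4] at h
    omega
  have h5 : 2 ^ j ∣ s * (s + 1) := by
    have h6 : 2 ^ j ∣ (2 * s + 1) * (s * (s + 1)) := ⟨_, h2.symm⟩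
    refine Nat.Coprime.dvd_of_dvd_mul_left ?_ h6
    exact Nat.Coprime.pow_left _ ((Nat.coprime_two_left).2 ⟨s, rfl⟩)
  have hs0 : 0 < s := by
    rcases Nat.eq_zero_or_pos s with h0 | h0
    · subst h0
      have : 0 < 2 ^ j * (3 * (2 ^ (j + 1) + 1)) := by positivity
      simp at h2
    · exact h0
  have h7 : 2 ^ j ≤ s + 1 := by
    rcases Nat.even_or_odd s with he | ho
    · have h8 : 2 ^ j ∣ s := by
        refine Nat.Coprime.dvd_of_dvd_mul_right ?_ h5
        exact Nat.Coprime.pow_left _ ((Nat.coprime_two_left).2 he.add_one)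
      exact (Nat.le_of_dvd hs0 h8).trans (by omega)
    · have h8 : 2 ^ j ∣ s + 1 := by
        refine Nat.Coprime.dvd_of_dvd_mul_left ?_ h5
        exact Nat.Coprime.pow_left _ ((Nat.coprime_two_left).2 ho)
      exact Nat.le_of_dvd (by omega) h8
  have h9 : 4 ≤ 2 ^ j := by
    calc 4 = 2 ^ 2 := by norm_num
      _ ≤ 2 ^ j := Nat.pow_le_pow_right (by norm_num) (by omega)
  have h10 : 2 ^ (j + 1) = 2 * 2 ^ j := by ring
  rw [h10] at h2
  set b := 2 ^ j with hb
  -- `3 b (2 b + 1) = s (s + 1) (2 s + 1)`, `4 ≤ b ≤ s + 1`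
  have h11 : 3 ≤ s := by omega
  have h12 : b * (3 * (2 * b + 1)) ≤ (s + 1) * (3 * (2 * (s + 1) + 1)) :=
    Nat.mul_le_mul h7 (by omega)
  have h13 : (2 * s + 1) * (s * (s + 1)) ≤ (s + 1) * (3 * (2 * (s + 1) + 1)) := h2 ▸ h12
  have h14 : (2 * s + 1) * s ≤ 3 * (2 * (s + 1) + 1) := by
    have h15 : (2 * s + 1) * (s * (s + 1)) = (s + 1) * ((2 * s + 1) * s) := by ring
    rw [h15] at h13
    exact Nat.le_of_mul_le_mul_left h13 (by omega)
  have h16 : s ≤ 4 := by nlinarith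
  have h17 : b ≤ 5 := by omega
  interval_cases s <;> interval_cases b <;> omega

variable {N : Type*} [Group N] [Finite N]

theorem card_eq_of_conf {T : Subgroup N} (hc : Conf T)
    (hN : normalizer (T : Set N) ≠ ⊤) (hl : 2 ≤ T.relIndex (normalizer (T : Set N)))
    (h3 : Nat.card {u : N // u ∈ T ∧ orderOf u = 2} ≤ 3) :
    Nat.card N = Nat.card T * 3 * (Nat.card T + 1) := by
  have h1 := (card_eq hc hN).1
  rw [h1] at h3
  have hodd : T.relIndex (normalizer (T : Set N)) ≠ 2 := by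
    intro h2
    obtain ⟨g, hg⟩ : ∃ g, g ∉ normalizer (T : Set N) := by
      by_contra h
      push Not at h
      exact hN (eq_top_iff.2 fun g _ => h g)
    obtain ⟨x, hx, -⟩ := exists_inv hc hN hg
    have h4 : Nat.card (D T x) = 2 := by rw [hx.card, h2]
    obtain ⟨d, hd, hd2⟩ := exists_prime_order_mem (L := D T x) Nat.prime_two (by rw [h4])
    have h5 := involution_mem hc (mem_D.1 hd).1 hd2
    have h6 := D_inf hc hx.notin hd h5
    rw [h6, orderOf_one] at hd2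
    omega
  have hl3 : T.relIndex (normalizer (T : Set N)) = 3 := by omega
  have h2 := card_norm (H := T)
  have h4 := card_points hc hN hl
  have h5 := Subgroup.card_mul_index (normalizer (T : Set N))
  rw [← h5, ← h2, hl3, Subgroup.index, h4]

theorem not_card_le_three {T : Subgroup N} (hc : Conf T) (hT : IsPGroup 2 T)
    (hT8 : 8 ≤ Nat.card T)
    (hN : normalizer (T : Set N) ≠ ⊤) (hl : 2 ≤ T.relIndex (normalizer (T : Set N)))
    (h340 : (∃ (F : Type) (_ : Field F) (_ : Fintype F),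
      Nonempty (N ≃* Matrix.ProjectiveSpecialLinearGroup (Fin 2) F)) ∨ Cfsg.IsSuzuki N) :
    ¬ Nat.card {u : N // u ∈ T ∧ orderOf u = 2} ≤ 3 := by
  intro h3
  have hcard := card_eq_of_conf hc hN hl h3
  have h2f : Fact (Nat.Prime 2) := ⟨Nat.prime_two⟩
  obtain ⟨k, hk⟩ := IsPGroup.iff_card.1 hT
  rw [hk] at hcard hT8
  have hk3 : 3 ≤ k := by
    by_contra hlt
    have : 2 ^ k ≤ 2 ^ 2 := Nat.pow_le_pow_right (by norm_num) (by omega)
    omega
  rcases h340 with ⟨F, _, _, ⟨e⟩⟩ | ⟨-, m, hm, hsz⟩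
  · have h4 := Cfsg.Agent.ClassicalGeometry.PSL2Basic.card_PSL2_gcd (F := F)
    rw [← Nat.card_congr e.toEquiv, hcard] at h4
    rcases Nat.even_or_odd (Fintype.card F) with he | ho
    · obtain ⟨p, hp⟩ := CharP.exists F
      have hpp : p.Prime := CharP.char_is_prime F p
      obtain ⟨n, -, hn⟩ := FiniteField.card F p
      have hp2 : p = 2 := by
        have h5 : 2 ∣ p ^ (n : ℕ) := by rw [← hn]; exact even_iff_two_dvd.1 he
        exact ((Nat.prime_dvd_prime_iff_eq Nat.prime_two hpp).1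
          (Nat.prime_two.dvd_of_dvd_pow h5)).symm
      subst hp2
      have h6 : Nat.gcd 2 (Fintype.card F - 1) = 1 := by
        apply (Nat.coprime_two_left).2
        obtain ⟨c, hc⟩ := he
        have : 0 < Fintype.card F := Fintype.card_pos
        exact ⟨c - 1, by omega⟩
      rw [h6, mul_one, hn] at h4
      exact num_even hk3 h4
    · have h6 : Nat.gcd 2 (Fintype.card F - 1) = 2 := by
        apply Nat.gcd_eq_left
        obtain ⟨c, hc⟩ := ho
        exact ⟨c, by omega⟩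
      rw [h6] at h4
      exact num_odd hk3 ho h4
  · rw [hcard] at hsz
    exact num_suzuki hm hsz

end Cfsg.Agent.H550.Part
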