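import Mathlib
import Cfsg.Agent.H550.Part.EvenNum

/-!
# Simple groups with an invariant nilpotent partition: the two cases
-/

set_option autoImplicit false

namespace Cfsg.Agent.H550.Part

open Subgroup Cfsg.Agent.LieExceptional.CCEven

universe u

variable {G : Type u} [Group G] {S : Set (Subgroup G)}

/-- restriction of a partition to a subgroup -/
def restr (S : Set (Subgroup G)) (N : Subgroup G) : Set (Subgroup N) :=
  {K | K ≠ ⊥ ∧ ∃ X ∈ S, X.subgroupOf N = K}

theorem IsPart.restr (hS : IsPart S) {N : Subgroup G} (hN : ∀ X ∈ S, ¬ N ≤ X) :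
    IsPart (restr S N) := by
  refine ⟨fun K hK => hK.1, ?_, ?_, ?_, ?_⟩
  · intro g hg
    have hg' : (g : G) ≠ 1 := fun h => hg (Subtype.ext h)
    obtain ⟨X, hX, hgX⟩ := hS.cover (g : G) hg'
    refine ⟨X.subgroupOf N, ⟨?_, X, hX, rfl⟩, mem_subgroupOf.2 hgX⟩
    intro h
    apply hg
    have h1 : g ∈ X.subgroupOf N := mem_subgroupOf.2 hgX
    rw [h, mem_bot] at h1
    exact h1
  · rintro H ⟨-, X, hX, rfl⟩ K ⟨-, Y, hY, rfl⟩ g hg hgX hgY
    have hg' : (g : G) ≠ 1 := fun h => hg (Subtype.ext h)
    rw [hS.eq_of_mem X hX Y hY (g : G) hg' (mem_subgroupOf.1 hgX) (mem_subgroupOf.1 hgY)]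
  · rintro H ⟨hH0, X, hX, rfl⟩ g
    refine ⟨?_, X.map (MulAut.conj (g : G)).toMonoidHom, hS.conj X hX g, ?_⟩
    · intro h
      apply hH0
      rwa [Subgroup.map_eq_bot_iff_of_injective _ (MulAut.conj g).injective] at h
    · ext n
      rw [mem_subgroupOf, mem_map, mem_map]
      constructor
      · rintro ⟨x, hx, hxe⟩
        have hxe' : (g : G) * x * (g : G)⁻¹ = n := hxe
        have hxN : x = ((g⁻¹ * n * g : N) : G) := by
          change x = (g : G)⁻¹ * n * g
          rw [← hxe']
          group
        refine ⟨g⁻¹ * n * g, ?_, ?_⟩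
        · rw [mem_subgroupOf, ← hxN]
          exact hx
        · change g * (g⁻¹ * n * g) * g⁻¹ = n
          group
      · rintro ⟨x, hx, rfl⟩
        exact ⟨x, mem_subgroupOf.1 hx, rfl⟩
  · rintro ⟨-, X, hX, hXt⟩
    exact hN X hX (subgroupOf_eq_top.1 hXt)

theorem nil_restr {N : Subgroup G} (hnil : ∀ X ∈ S, Group.IsNilpotent X) :
    ∀ K ∈ restr S N, Group.IsNilpotent K := by
  rintro K ⟨-, X, hX, rfl⟩
  have := hnil X hX
  have h1 : Group.IsNilpotent ((X.subgroupOf N).map N.subtype) := by
    apply isNilpotent_of_le (K := X)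
    rw [subgroupOf_map_subtype]
    exact inf_le_left
  exact Group.nilpotent_of_mulEquiv
    ((X.subgroupOf N).equivMapOfInjective N.subtype N.subtype_injective).symm

/-- homomorphisms to `{±1}` from a nonabelian simple group are trivial -/
theorem hom_units_eq_one [IsSimpleGroup G] (hns : ¬ Group.IsSolvable G) (f : G →* ℤˣ) (u : G) :
    f u = 1 := by
  have hn : f.ker.Normal := inferInstance
  rcases hn.eq_bot_or_eq_top with h | h
  · exfalso
    apply hns
    have hinj : Function.Injective f := (MonoidHom.ker_eq_bot_iff f).1 h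
    exact Group.isSolvable_of_isSolvable_injective hinj
  · have : u ∈ f.ker := by rw [h]; exact mem_top u
    exact this

theorem conf_of_elementary [Finite G] (heven : 2 ∣ Nat.card G) (T : Sylow 2 G)
    (hsq : ∀ x ∈ (T : Subgroup G), x * x = 1)
    (hc : ∀ x ∈ (T : Subgroup G), x ≠ 1 → ∀ g : G, g * x = x * g → g ∈ (T : Subgroup G)) :
    Conf (T : Subgroup G) := by
  have hcomm : ∀ x ∈ (T : Subgroup G), ∀ y ∈ (T : Subgroup G), x * y = y * x := by
    intro x hx y hy
    have h1 := hsq _ (mul_mem hx hy)
    have h2 := inv_eq_of_mul_eq_one_left (hsq x hx)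
    have h3 := inv_eq_of_mul_eq_one_left (hsq y hy)
    have h4 : x * y = (x * y)⁻¹ := eq_inv_of_mul_eq_one_left h1
    rw [mul_inv_rev, h2, h3] at h4
    exact h4
  refine ⟨fun h hh hh1 g hg => hc h hh hh1 g hg, ?_, ?_⟩
  · intro h hh hh1 g hg
    have hg1 : g * h * g⁻¹ ≠ 1 := fun h' => hh1 (conj_eq_one_iff.1 h')
    have key : ∀ t ∈ (T : Subgroup G), g⁻¹ * t * g ∈ (T : Subgroup G) := by
      intro t ht
      apply hc h hh hh1
      have h1 := hcomm t ht _ hg
      calc g⁻¹ * t * g * h = g⁻¹ * (t * (g * h * g⁻¹)) * g := by group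
        _ = g⁻¹ * ((g * h * g⁻¹) * t) * g := by rw [h1]
        _ = h * (g⁻¹ * t * g) := by group
    have key2 : ∀ t ∈ (T : Subgroup G), g * t * g⁻¹ ∈ (T : Subgroup G) := by
      intro t ht
      apply hc _ hg hg1
      have h1 := hcomm t ht h hh
      calc g * t * g⁻¹ * (g * h * g⁻¹) = g * (t * h) * g⁻¹ := by group
        _ = g * (h * t) * g⁻¹ := by rw [h1]
        _ = g * h * g⁻¹ * (g * t * g⁻¹) := by group
    rw [mem_normalizer_iff]
    intro t
    refine ⟨key2 t, fun ht => ?_⟩
    have h1 := key _ ht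
    have h2 : g⁻¹ * (g * t * g⁻¹) * g = t := by group
    rwa [h2] at h1
  · have h2f : Fact (Nat.Prime 2) := ⟨Nat.prime_two⟩
    have := T.card_eq_multiplicity
    rw [this]
    apply dvd_pow_self
    have := (Nat.Prime.factorization_pos_of_dvd Nat.prime_two (Nat.card_pos (α := G)).ne' heven)
    omega

/-- **The two cases for a simple group with an invariant nilpotent partition.** -/
theorem IsPart.cases [Finite G] [IsSimpleGroup G] (hS : IsPart S)
    (hnil : ∀ X ∈ S, Group.IsNilpotent X) (heven : 2 ∣ Nat.card G)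
    (hns : ¬ Group.IsSolvable G)
    (h1221 : ∀ H : Subgroup G, IsStronglyEmbedded H →
      (oddCore ↥H).map H.subtype ≤ oddCore G) (T : Sylow 2 G) :
    Conf (T : Subgroup G) ∨
    ((∃ n : ℕ, 2 ≤ n ∧ Nonempty ((T : Subgroup G) ≃* DihedralGroup n)) ∧
      ∀ Y ∈ S, ∀ s ∈ Y, ∀ t ∈ Y, orderOf s = 2 → orderOf t = 2 → s * t = t * s → s = t) := by
  by_cases hT : ∃ X ∈ S, (T : Subgroup G) ≤ X
  · obtain ⟨X, hX, hTX⟩ := hT
    exact Or.inl (hS.conf_of_sylow_le hnil heven h1221 T hX hTX)
  · push Not at hT
    rcases hS.struct heven (hom_units_eq_one hns) T hT with ⟨h1, h2⟩ | h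
    · exact Or.inl (conf_of_elementary heven T h1 (fun x hx hx1 g hg => (h2 x hx hx1 g hg).1))
    · exact Or.inr h

theorem ne_top_of_not_solvable [Finite G] (hns : ¬ Group.IsSolvable G) (T : Sylow 2 G) :
    (T : Subgroup G) ≠ ⊤ := by
  intro h
  apply hns
  have h2f : Fact (Nat.Prime 2) := ⟨Nat.prime_two⟩
  have h1 : IsPGroup 2 (⊤ : Subgroup G) := h ▸ T.2
  have h2 : IsPGroup 2 G := h1.of_equiv Subgroup.topEquiv
  exact isSolvable_of_isPGroup h2

/-- a configuration with a Sylow subgroup of order at most four: order 60 and a dihedral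
Sylow subgroup. -/
theorem conf_small [Finite G] [IsSimpleGroup G] (hns : ¬ Group.IsSolvable G) (T : Sylow 2 G)
    (hc : Conf (T : Subgroup G)) (hT : Nat.card (T : Subgroup G) < 8) :
    Nat.card G = 60 ∧ Nonempty ((T : Subgroup G) ≃* DihedralGroup 2) := by
  classical
  have h2f : Fact (Nat.Prime 2) := ⟨Nat.prime_two⟩
  have htop := ne_top_of_not_solvable hns T
  have hntop := norm_ne_top hc htop
  have hl := two_le hc htop
  have hI := (card_eq hc hntop).1
  -- `#I ≤ |T| - 1`
  have hle : Nat.card {u : G // u ∈ (T : Subgroup G) ∧ orderOf u = 2} + 1 ≤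
      Nat.card (T : Subgroup G) := by
    have h1 : (insert (1 : G) {u : G | u ∈ (T : Subgroup G) ∧ orderOf u = 2}) ⊆
        ((T : Subgroup G) : Set G) := by
      rintro u (rfl | ⟨hu, -⟩)
      · exact one_mem _
      · exact hu
    have h2 := Set.ncard_le_ncard h1 (Set.toFinite _)
    rw [Set.ncard_insert_of_notMem] at h2
    · exact h2
    · rintro ⟨-, h⟩
      rw [orderOf_one] at h
      omega
  obtain ⟨k, hk⟩ := IsPGroup.iff_card.1 T.2
  have hk2 : k = 2 := by
    have h3 : k < 3 := by
      by_contra hge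
      push Not at hge
      have : 2 ^ 3 ≤ 2 ^ k := Nat.pow_le_pow_right (by norm_num) hge
      omega
    have h4 : 3 ≤ 2 ^ k := by omega
    interval_cases k
    · simp at h4
    · simp at h4
    · rfl
  rw [hk2] at hk
  have hT4 : Nat.card (T : Subgroup G) = 4 := by rw [hk]; norm_num
  have hcard := card_eq_of_conf hc hntop hl (by omega)
  refine ⟨by rw [hcard, hT4], ?_⟩
  -- `T` is a Klein four-group
  have hK : IsKleinFour (T : Subgroup G) := by
    refine ⟨hT4, ?_⟩
    -- two involutions
    have h2I : 2 ≤ Nat.card {u : G // u ∈ (T : Subgroup G) ∧ orderOf u = 2} := by omega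
    have hnt : Nontrivial {u : G // u ∈ (T : Subgroup G) ∧ orderOf u = 2} := by
      rw [← Finite.one_lt_card_iff_nontrivial]
      omega
    obtain ⟨⟨a, haT, ha⟩, ⟨b, hbT, hb⟩, hab⟩ := hnt
    have hab' : a ≠ b := fun h => hab (Subtype.ext h)
    -- not cyclic, so exponent two
    have hnc : ¬ IsCyclic (T : Subgroup G) := by
      intro hcy
      have := Fintype.ofFinite (T : Subgroup G)
      have h1 := IsCyclic.card_pow_eq_one_le (α := (T : Subgroup G)) (n := 2) (by norm_num)
      have h2 : ({1, ⟨a, haT⟩, ⟨b, hbT⟩} : Finset (T : Subgroup G)) ⊆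
          Finset.univ.filter (fun x : (T : Subgroup G) => x ^ 2 = 1) := by
        intro x hx
        rw [Finset.mem_filter]
        refine ⟨Finset.mem_univ _, ?_⟩
        simp only [Finset.mem_insert, Finset.mem_singleton] at hx
        rcases hx with rfl | rfl | rfl
        · exact one_pow 2
        · apply Subtype.ext
          change a ^ 2 = 1
          rw [← ha]
          exact pow_orderOf_eq_one a
        · apply Subtype.ext
          change b ^ 2 = 1
          rw [← hb]
          exact pow_orderOf_eq_one b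
      have h3 := (Finset.card_le_card h2).trans h1
      rw [Finset.card_insert_of_notMem, Finset.card_insert_of_notMem, Finset.card_singleton] at h3
      · omega
      · simp only [Finset.mem_singleton]
        intro h
        exact hab' (congrArg Subtype.val h)
      · simp only [Finset.mem_insert, Finset.mem_singleton, not_or]
        constructor
        · intro h
          have h4 : (1 : G) = a := congrArg Subtype.val h
          rw [← h4, orderOf_one] at ha
          omega
        · intro h
          have h4 : (1 : G) = b := congrArg Subtype.val h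
          rw [← h4, orderOf_one] at hb
          omega
    -- exponent
    apply Nat.dvd_antisymm
    · apply Monoid.exponent_dvd_of_forall_pow_eq_one
      intro x
      by_contra hx
      apply hnc
      have h1 : orderOf x ∣ 2 ^ 2 := by
        have := orderOf_dvd_natCard x
        rw [hT4] at this
        exact this
      obtain ⟨j, hj, hjx⟩ := (Nat.dvd_prime_pow Nat.prime_two).1 h1
      have h2 : j = 2 := by
        by_contra hne
        apply hx
        apply orderOf_dvd_iff_pow_eq_one.1
        rw [hjx]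
        exact pow_dvd_pow 2 (show j ≤ 1 by omega)
      apply isCyclic_of_orderOf_eq_card x
      rw [hjx, h2, hT4]
      norm_num
    · have h1 := Monoid.order_dvd_exponent (⟨a, haT⟩ : (T : Subgroup G))
      rwa [orderOf_mk, ha] at h1
  exact IsKleinFour.nonempty_mulEquiv

end Cfsg.Agent.H550.Part
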