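import Mathlib
import Cfsg.Agent.H550.Part.Basic
import Cfsg.Agent.H550.Hughes
import Cfsg.Agent.OddOrderLocal.CNBasic

/-!
# Invariant partitions with a normal component

If a component `X` is normal in `G` then `G` has a Frobenius complement, or `G` is generated by `X`
and elements of order `p`, the elements outside `X` having order `p`.
-/

set_option autoImplicit false

namespace Cfsg.Agent.H550.Part

open Subgroup

universe u

variable {G : Type u} [Group G] [Finite G] {S : Set (Subgroup G)}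

/-- A component `Y ≠ X` with `N_X(Y) = 1` is a Frobenius complement. -/
theorem IsPart.frobenius_of_inf (hS : IsPart S) {X Y : Subgroup G} [hXn : X.Normal] (hX : X ∈ S)
    (hY : Y ∈ S) (hXY : X ⊓ normalizer (Y : Set G) = ⊥) : IsFrobeniusComplement Y := by
  apply hS.isFrobeniusComplement hY
  by_contra hcon
  obtain ⟨g₀, hg₀, hg₀Y⟩ := SetLike.not_le_iff_exists.1 hcon
  obtain ⟨g, hg, hgY, t, ht, hgt⟩ := exists_prime_pow_mem hg₀ hg₀Y
  have h1 := hS.coset_pow hY hg hgY hgt
  set U : Subgroup G := X ⊔ Y with hU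
  have hgU : g ∈ normalizer (U : Set G) := by
    have h2 : g ∈ normalizer (X : Set G) := by rw [normalizer_eq_top]; exact mem_top g
    rw [mem_normalizer_iff_map_conj_eq] at h2 hg ⊢
    rw [hU, Subgroup.map_sup, h2, hg]
  have hUt : ∀ u ∈ U, (u * g) ^ t = 1 := by
    intro u hu
    obtain ⟨x, hx, y, hy, rfl⟩ := mem_sup_of_normal_left.1 hu
    rw [mul_assoc]
    apply hS.pow_eq_one hX
    · intro h
      have h3 : y * g ∈ X := (mul_mem_cancel_left hx).1 h
      have h4 : y * g ∈ X ⊓ normalizer (Y : Set G) :=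
        ⟨h3, mul_mem (le_normalizer hy) hg⟩
      rw [hXY, mem_bot] at h4
      apply hgY
      have h5 : g = y⁻¹ * (y * g) := by group
      rw [h5, h4, mul_one]
      exact inv_mem hy
    · have h3 : y * g ∈ normalizer (X : Set G) := by rw [normalizer_eq_top]; exact mem_top _
      have h4 := mul_pow_mem h3 hx t
      rw [h1 y hy, inv_one, mul_one] at h4
      exact h4
  have hUnil := Kegel.isNilpotent_of_coset ht _ G U g rfl hgU hUt
  obtain ⟨a, ha, ha1, hac⟩ := exists_central hUnil (le_sup_left : X ≤ U)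
    (by rw [normalizer_eq_top]; exact le_top) (hS.ne_bot X hX)
  obtain ⟨y, hy, hy1⟩ := ((Y.bot_or_exists_ne_one).resolve_left (hS.ne_bot Y hY))
  have h3 : a ∈ normalizer (Y : Set G) :=
    hS.mem_normalizer_of_commute hY hy hy1 (hac y ((le_sup_right : Y ≤ U) hy)).symm
  have h4 : a ∈ X ⊓ normalizer (Y : Set G) := ⟨ha, h3⟩
  rw [hXY, mem_bot] at h4
  exact ha1 h4

omit [Finite G] in
theorem mem_of_two_pow {U : Subgroup G} {w : G} {r s : ℕ} (hr : r.Prime) (hs : s.Prime)
    (hrs : s ≠ r) (hwr : w ^ r ∈ U) (hws : w ^ s = 1) : w ∈ U := by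
  obtain ⟨m, n, hmn⟩ : IsCoprime (r : ℤ) (s : ℤ) :=
    Nat.isCoprime_iff_coprime.2 ((Nat.coprime_primes hr hs).2 hrs.symm)
  have h1 : w = (w ^ r) ^ m := by
    conv_lhs => rw [← zpow_one w, ← hmn, zpow_add, mul_comm m, mul_comm n, zpow_mul, zpow_mul,
      zpow_natCast, zpow_natCast, hws, one_zpow, mul_one]
  rw [h1]
  exact zpow_mem hwr m

/-- If no component is a Frobenius complement, the elements outside the normal component `X` have
prime order, occurring in `X`. -/
theorem IsPart.prime_of_notMem (hS : IsPart S) {X : Subgroup G} [hXn : X.Normal] (hX : X ∈ S)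
    (hall : ∀ Y ∈ S, Y ≠ X → X ⊓ normalizer (Y : Set G) ≠ ⊥) {y : G} (hy : y ∉ X) :
    (orderOf y).Prime ∧ ∃ x ∈ X, orderOf x = orderOf y := by
  have hy1 : y ≠ 1 := by
    rintro rfl
    exact hy (one_mem X)
  obtain ⟨Y, hY, hyY⟩ := hS.cover y hy1
  have hYX : Y ≠ X := by
    rintro rfl
    exact hy hyY
  obtain ⟨n, hn, hn1⟩ := ((X ⊓ normalizer (Y : Set G)).bot_or_exists_ne_one).resolve_left
    (hall Y hY hYX)
  have hcomm : n * y = y * n := by
    have h1 : n * y * n⁻¹ * y⁻¹ ∈ Y :=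
      mul_mem ((mem_normalizer_iff.1 hn.2 y).1 hyY) (inv_mem hyY)
    have h2 : n * y * n⁻¹ * y⁻¹ ∈ X := by
      have h3 : n * y * n⁻¹ * y⁻¹ = n * (y * n⁻¹ * y⁻¹) := by group
      rw [h3]
      exact mul_mem hn.1 (hXn.conj_mem _ (inv_mem hn.1) y)
    by_contra hne
    apply hYX
    refine hS.eq_of_mem Y hY X hX (n * y * n⁻¹ * y⁻¹) ?_ h1 h2
    intro h3
    apply hne
    have h4 : n * y * n⁻¹ * y⁻¹ * (y * n) = n * y := by group
    rw [h3, one_mul] at h4
    exact h4.symm
  have h5 := hS.prime_of_commute hX hn.1 hn1 hy hcomm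
  exact ⟨h5.2 ▸ h5.1, n, hn.1, h5.2.symm⟩

/-- If no component is a Frobenius complement, all elements outside the normal component `X` have
the same prime order. -/
theorem IsPart.exists_prime (hS : IsPart S) {X : Subgroup G} [hXn : X.Normal] (hX : X ∈ S)
    (hall : ∀ Y ∈ S, Y ≠ X → X ⊓ normalizer (Y : Set G) ≠ ⊥) :
    ∃ p : ℕ, p.Prime ∧ ∀ g : G, g ∉ X → g ^ p = 1 := by
  classical
  have hXtop : X ≠ ⊤ := by
    rintro rfl
    exact hS.top hX
  have hprime := fun {y : G} (hy : y ∉ X) => hS.prime_of_notMem hX hall hy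
  by_cases hXr : ∃ r : ℕ, r.Prime ∧ IsPGroup r X
  · obtain ⟨r, hr, hXr⟩ := hXr
    refine ⟨r, hr, ?_⟩
    intro g hg
    obtain ⟨h1, x, hx, hxg⟩ := hprime hg
    have hrf : Fact r.Prime := ⟨hr⟩
    obtain ⟨k, hk⟩ := (IsPGroup.iff_orderOf.1 hXr) ⟨x, hx⟩
    rw [Subgroup.orderOf_mk, hxg] at hk
    rw [hk] at h1
    have h2 : orderOf g = r := by
      rw [hk]
      rcases Nat.eq_zero_or_pos k with h0 | h0
      · rw [h0, pow_zero] at h1
        exact absurd h1 Nat.not_prime_one
      · exact (Nat.Prime.eq_one_of_pow h1).symm ▸ pow_one r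
    rw [← h2]
    exact pow_orderOf_eq_one g
  push Not at hXr
  have hcard1 : Nat.card (G ⧸ X) ≠ 1 := by
    intro h
    exact hXtop (Subgroup.index_eq_one.1 h)
  set r : ℕ := (Nat.card (G ⧸ X)).minFac with hrdef
  have hr : r.Prime := Nat.minFac_prime hcard1
  have hrf : Fact r.Prime := ⟨hr⟩
  obtain ⟨P⟩ : Nonempty (Sylow r (G ⧸ X)) := inferInstance
  set L : Subgroup G := (P : Subgroup (G ⧸ X)).comap (QuotientGroup.mk' X) with hL
  have hXL : X ≤ L := by
    intro x hx
    change (QuotientGroup.mk' X) x ∈ (P : Subgroup (G ⧸ X))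
    rw [show (QuotientGroup.mk' X) x = 1 from (QuotientGroup.eq_one_iff x).2 hx]
    exact one_mem _
  have hLr : ∀ g ∈ L, g ∉ X → g ^ r = 1 := by
    intro g hg hgX
    obtain ⟨h1, -⟩ := hprime hgX
    obtain ⟨k, hk⟩ := (isPGroup_iff_pow_pow_eq_one.1 P.2) ⟨_, hg⟩
    have h2 : (QuotientGroup.mk' X) g ^ r ^ k = 1 := congrArg Subtype.val hk
    rw [← map_pow] at h2
    have h3 : g ^ r ^ k ∈ X := (QuotientGroup.eq_one_iff _).1 h2
    have h4 := hS.pow_eq_one hX hgX h3
    have h5 := h1.dvd_of_dvd_pow (orderOf_dvd_of_pow_eq_one h4)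
    rw [← (Nat.prime_dvd_prime_iff_eq h1 hr).1 h5]
    exact pow_orderOf_eq_one g
  have hPne : (P : Subgroup (G ⧸ X)) ≠ ⊥ := by
    intro h
    have h2 := P.card_eq_multiplicity
    rw [h, Subgroup.card_bot] at h2
    have h3 : 0 < (Nat.card (G ⧸ X)).factorization r :=
      hr.factorization_pos_of_dvd Nat.card_pos.ne' (Nat.minFac_dvd _)
    exact absurd h2.symm (Nat.one_lt_pow h3.ne' hr.one_lt).ne'
  obtain ⟨z, hzX, hzgen⟩ := Hughes.exists_generator (G := L) hr
    (fun h => hXr r hr (h.of_injective (inclusion hXL) (inclusion_injective hXL)))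
    (X.subgroupOf L)
    (by
      intro h
      rw [Subgroup.subgroupOf_eq_top] at h
      apply hPne
      rw [eq_bot_iff]
      intro x hx
      obtain ⟨g, rfl⟩ := QuotientGroup.mk'_surjective X x
      exact (QuotientGroup.eq_one_iff g).2 (h hx))
    (by
      intro g hg
      exact Subtype.ext (hLr g g.2 hg))
  have hzX' : (z : G) ∉ X := hzX
  set zb : G ⧸ X := QuotientGroup.mk' X z with hzb
  have hPz : (P : Subgroup (G ⧸ X)) ≤ zpowers zb := by
    intro x hx
    obtain ⟨g, rfl⟩ := QuotientGroup.mk'_surjective X x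
    have hg : (⟨g, hx⟩ : L) ∈ X.subgroupOf L ⊔ zpowers z := by rw [hzgen]; exact mem_top _
    obtain ⟨h, hh, y, ⟨k, rfl⟩, hk⟩ := mem_sup_of_normal_left.1 hg
    refine ⟨k, ?_⟩
    have h1 : (h : G) * ((z : G) ^ k) = g := by
      have := congrArg Subtype.val hk
      simpa using this
    have h2 : (QuotientGroup.mk' X) (h : G) = 1 := (QuotientGroup.eq_one_iff _).2 hh
    rw [← h1, map_mul, h2, one_mul, map_zpow]
  have hPc : IsCyclic (P : Subgroup (G ⧸ X)) :=
    Subgroup.isCyclic_of_le hPz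
  have hcompl := IsCyclic.isComplement' (G := G ⧸ X) rfl (P := P) hPc
  set K : Subgroup (G ⧸ X) := (MonoidHom.transferSylow P (hPc.normalizer_le_centralizer rfl)).ker
    with hK
  have hKn : K.Normal := inferInstance
  have hKcop : ¬ r ∣ Nat.card K := by
    have h1 := P.not_dvd_index
    rwa [hcompl.index_eq_card] at h1
  set U : Subgroup G := K.comap (QuotientGroup.mk' X) with hU
  have hUn : U.Normal := hKn.comap _
  have hXU : X ≤ U := by
    intro x hx
    change (QuotientGroup.mk' X) x ∈ K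
    rw [show (QuotientGroup.mk' X) x = 1 from (QuotientGroup.eq_one_iff x).2 hx]
    exact one_mem _
  have hzr : (z : G) ^ r = 1 := hLr z z.2 hzX'
  have hzU : (z : G) ∉ U := by
    intro h
    have h1 : zb ∈ K ⊓ (P : Subgroup (G ⧸ X)) := ⟨h, z.2⟩
    rw [hcompl.disjoint.eq_bot, mem_bot] at h1
    exact hzX' ((QuotientGroup.eq_one_iff _).1 h1)
  have hUz : ∀ u ∈ U, (u * (z : G)) ^ r = 1 := by
    intro u hu
    have huz : u * (z : G) ∉ U := fun h => hzU ((mul_mem_cancel_left hu).1 h)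
    obtain ⟨h1, -⟩ := hprime (fun h => huz (hXU h))
    have h2 : (u * (z : G)) ^ r ∈ U := by
      have h3 := mul_pow_mem (X := U) (g := (z : G)) (by rw [normalizer_eq_top]; exact mem_top _) hu r
      rwa [hzr, inv_one, mul_one] at h3
    by_cases hne : orderOf (u * (z : G)) = r
    · rw [← hne]; exact pow_orderOf_eq_one _
    · exact absurd (mem_of_two_pow hr h1 hne h2 (pow_orderOf_eq_one _)) huz
  have hUnil := Kegel.isNilpotent_of_coset hr _ G U (z : G) rfl
    (by rw [normalizer_eq_top]; exact mem_top _) hUz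
  have hUX : U ≤ X := by
    intro u hu
    by_contra huX
    obtain ⟨h1, -⟩ := hprime huX
    obtain ⟨h2, x, hx, hxz⟩ := hprime hzX'
    have hzo : orderOf (z : G) = r := by
      have h3 := orderOf_dvd_of_pow_eq_one hzr
      exact (Nat.prime_dvd_prime_iff_eq h2 hr).1 h3
    have hne : orderOf u ≠ r := by
      intro h
      apply hKcop
      have h3 : orderOf ((QuotientGroup.mk' X) u) = r := by
        have h4 : orderOf ((QuotientGroup.mk' X) u) ∣ r := by
          rw [← h]
          exact orderOf_map_dvd _ _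
        rcases (Nat.dvd_prime hr).1 h4 with h5 | h5
        · rw [orderOf_eq_one_iff] at h5
          exact absurd ((QuotientGroup.eq_one_iff u).1 h5) huX
        · exact h5
      rw [← h3]
      exact Subgroup.orderOf_dvd_natCard K hu
    have hx1 : x ≠ 1 := by
      rintro rfl
      rw [orderOf_one] at hxz
      rw [← hxz] at h2
      exact Nat.not_prime_one h2
    have hcomm := OddOrderLocal.CNBasic.commute_of_mem_of_coprime hUnil (hXU hx) hu (by
      rw [hxz, hzo]
      exact (Nat.coprime_primes hr h1).2 (Ne.symm hne))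
    have h6 := (hS.prime_of_commute hX hx hx1 huX hcomm.eq).2
    rw [hxz, hzo] at h6
    exact hne h6
  refine ⟨r, hr, ?_⟩
  intro g hg
  apply hLr g _ hg
  have hKbot : K = ⊥ := by
    rw [eq_bot_iff]
    intro x hx
    obtain ⟨g, rfl⟩ := QuotientGroup.mk'_surjective X x
    exact (QuotientGroup.eq_one_iff g).2 (hUX hx)
  have hPtop : (P : Subgroup (G ⧸ X)) = ⊤ := by
    rw [hKbot] at hcompl
    exact Subgroup.isComplement'_bot_left.1 hcompl
  change _ ∈ (P : Subgroup (G ⧸ X))
  rw [hPtop]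
  exact mem_top _

omit [Finite G] in
theorem hughes_of_forall {X : Subgroup G} (hX : X ≠ ⊤) {p : ℕ} (h : ∀ g : G, g ∉ X → g ^ p = 1) :
    closure {g : G | g ^ p ≠ 1} ≠ ⊤ := by
  intro htop
  apply hX
  rw [eq_top_iff, ← htop, closure_le]
  intro g hg
  by_contra hgX
  exact hg (h g hgX)

/-- **An invariant partition with a normal component.** -/
theorem IsPart.concl_of_normal (hS : IsPart S) {X : Subgroup G} [hXn : X.Normal] (hX : X ∈ S) :
    (∃ p : ℕ, p.Prime ∧ closure {g : G | g ^ p ≠ 1} ≠ ⊤) ∨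
      ∃ H : Subgroup G, IsFrobeniusComplement H := by
  by_cases hall : ∀ Y ∈ S, Y ≠ X → X ⊓ normalizer (Y : Set G) ≠ ⊥
  · left
    obtain ⟨p, hp, h⟩ := hS.exists_prime hX hall
    refine ⟨p, hp, hughes_of_forall ?_ h⟩
    rintro rfl
    exact hS.top hX
  · right
    push Not at hall
    obtain ⟨Y, hY, -, hXY⟩ := hall
    exact ⟨Y, hS.frobenius_of_inf hX hY hXY⟩

end Cfsg.Agent.H550.Part
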