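import Mathlib
import Cfsg.Agent.H550.Part.NormalComp
import Cfsg.Agent.S0026

/-!
# Invariant partitions and normal elementary abelian subgroups

`A` is a normal elementary abelian `p`-subgroup of `G` not contained in a component.
-/

set_option autoImplicit false

namespace Cfsg.Agent.H550.Part

open Subgroup

universe u

variable {G : Type u} [Group G] [Finite G] {S : Set (Subgroup G)}

omit [Finite G] in
theorem mem_of_coprime_pow {U : Subgroup G} {w : G} {m n : ℕ} (hmn : Nat.Coprime m n)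
    (hm : w ^ m ∈ U) (hn : w ^ n ∈ U) : w ∈ U := by
  obtain ⟨a, b, hab⟩ : IsCoprime (m : ℤ) (n : ℤ) := Nat.isCoprime_iff_coprime.2 hmn
  have h1 : w = (w ^ m) ^ a * (w ^ n) ^ b := by
    conv_lhs => rw [← zpow_one w, ← hab, zpow_add, mul_comm a, mul_comm b, zpow_mul, zpow_mul,
      zpow_natCast, zpow_natCast]
  rw [h1]
  exact mul_mem (zpow_mem hm a) (zpow_mem hn b)

theorem exists_prime_order_of_not_isPGroup {p : ℕ} (hp : p.Prime) {X : Subgroup G}
    (hX : ¬ IsPGroup p X) : ∃ w ∈ X, (orderOf w).Prime ∧ orderOf w ≠ p := by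
  have hpf : Fact p.Prime := ⟨hp⟩
  obtain ⟨q, hq, hqp, hqX⟩ : ∃ q : ℕ, q.Prime ∧ q ≠ p ∧ q ∣ Nat.card X := by
    by_contra hcon
    push Not at hcon
    apply hX
    rw [IsPGroup.iff_card]
    refine ⟨_, Nat.eq_prime_pow_of_unique_prime_dvd Nat.card_pos.ne' ?_⟩
    intro d hd hdvd
    by_contra hne
    exact hcon d hd hne hdvd
  have hqf : Fact q.Prime := ⟨hq⟩
  obtain ⟨w, hw⟩ := exists_prime_orderOf_dvd_card' q hqX
  rw [← Subgroup.orderOf_coe] at hw
  exact ⟨w, w.2, hw ▸ hq, hw ▸ hqp⟩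

/-- the hypothesis on `A`. -/
structure Elem (S : Set (Subgroup G)) (A : Subgroup G) (p : ℕ) : Prop where
  prime : p.Prime
  normal : A.Normal
  comm : ∀ a ∈ A, ∀ b ∈ A, a * b = b * a
  pow : ∀ a ∈ A, a ^ p = 1
  ne_bot : A ≠ ⊥
  notLe : ∀ X ∈ S, ¬ A ≤ X

variable {A : Subgroup G} {p : ℕ}

omit [Finite G] in
theorem Elem.isPGroup (hA : Elem S A p) : IsPGroup p A := by
  have hpf : Fact p.Prime := ⟨hA.prime⟩
  rw [isPGroup_iff_pow_pow_eq_one]
  intro a
  exact ⟨1, Subtype.ext (by rw [pow_one]; exact hA.pow a a.2)⟩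

omit [Finite G] in
theorem Elem.orderOf_eq (hA : Elem S A p) {a : G} (ha : a ∈ A) (ha1 : a ≠ 1) : orderOf a = p := by
  have hpf : Fact p.Prime := ⟨hA.prime⟩
  exact orderOf_eq_prime_iff.2 ⟨hA.pow a ha, ha1⟩

/-- components meeting `A` are `p`-groups. -/
theorem Elem.isPGroup_of_inf (hS : IsPart S) (hA : Elem S A p) {X : Subgroup G} (hX : X ∈ S)
    (hXA : X ⊓ A ≠ ⊥) : IsPGroup p X := by
  by_contra hcon
  have hAn := hA.normal
  obtain ⟨w, hw, hwq, hwp⟩ := exists_prime_order_of_not_isPGroup hA.prime hcon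
  have hw1 : w ≠ 1 := by
    rintro rfl
    rw [orderOf_one] at hwq
    exact Nat.not_prime_one hwq
  obtain ⟨c, hc, hc1⟩ := ((X ⊓ A).bot_or_exists_ne_one).resolve_left hXA
  have hAX : A ≤ normalizer (X : Set G) := by
    intro a ha
    exact hS.mem_normalizer_of_commute hX hc.1 hc1 (hA.comm a ha c hc.2)
  have hpf : Fact p.Prime := ⟨hA.prime⟩
  have hcop : (Nat.card (zpowers w)).Coprime (Nat.card A) := by
    rw [Nat.card_zpowers]
    obtain ⟨n, hn⟩ := IsPGroup.iff_card.mp hA.isPGroup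
    rw [hn]
    exact Nat.Coprime.pow_right n ((Nat.coprime_primes hwq hA.prime).2 hwp)
  have key := Cfsg.Agent.S0026.result (zpowers w) A (by rw [normalizer_eq_top]; exact le_top) hcop
    (Or.inl (Group.isSolvable_of_comm (fun a b => mul_comm' a b)))
  obtain ⟨a, ha, haX⟩ : ∃ a ∈ A ⊓ centralizer (zpowers w : Set G), a ∉ X := by
    by_contra hcon2
    push Not at hcon2
    apply hA.notLe X hX
    rw [← key]
    refine sup_le ?_ hcon2
    rw [commutator_le]
    intro a ha w' hw'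
    rw [commutatorElement_def]
    have hw'X : w' ∈ X := (zpowers_le.2 hw) hw'
    exact mul_mem ((mem_normalizer_iff.1 (hAX ha) w').1 hw'X) (inv_mem hw'X)
  have hcomm : w * a = a * w := mem_centralizer_iff.1 ha.2 w (mem_zpowers w)
  have h1 := (hS.prime_of_commute hX hw hw1 haX hcomm).2
  have ha1 : a ≠ 1 := by
    rintro rfl
    exact haX (one_mem X)
  rw [hA.orderOf_eq ha.1 ha1] at h1
  exact hwp h1.symm

theorem Elem.inf_normalizer (hS : IsPart S) (hA : Elem S A p) {X : Subgroup G} (hX : X ∈ S)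
    (hXp : ¬ IsPGroup p X) {n : G} (hnA : n ∈ A) (hn : n ∈ normalizer (X : Set G)) : n = 1 := by
  by_contra hn1
  have hAn := hA.normal
  have hpf : Fact p.Prime := ⟨hA.prime⟩
  have hXA : X ⊓ A = ⊥ := by
    by_contra h
    exact hXp (hA.isPGroup_of_inf hS hX h)
  apply hXp
  rw [isPGroup_iff_pow_pow_eq_one]
  intro x
  refine ⟨1, Subtype.ext ?_⟩
  rw [pow_one]
  change (x : G) ^ p = 1
  by_cases hx1 : (x : G) = 1
  · rw [hx1, one_pow]
  have h1 : n * x * n⁻¹ * (x : G)⁻¹ ∈ X ⊓ A := by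
    refine mem_inf.2 ⟨mul_mem ((mem_normalizer_iff.1 hn x).1 x.2) (inv_mem x.2), ?_⟩
    have h3 : n * x * n⁻¹ * (x : G)⁻¹ = n * (x * n⁻¹ * (x : G)⁻¹) := by group
    rw [h3]
    exact mul_mem hnA (hAn.conj_mem _ (inv_mem hnA) x)
  rw [hXA, mem_bot] at h1
  have h2 : (x : G) * n = n * x := by
    have h4 : n * x * n⁻¹ * (x : G)⁻¹ * (x * n) = n * x := by group
    rw [h1, one_mul] at h4
    exact h4
  have hnX : n ∉ X := by
    intro h
    have h5 : n ∈ X ⊓ A := ⟨h, hnA⟩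
    rw [hXA, mem_bot] at h5
    exact hn1 h5
  have h6 := (hS.prime_of_commute hX x.2 hx1 hnX h2).2
  rw [hA.orderOf_eq hnA hn1] at h6
  rw [h6]
  exact pow_orderOf_eq_one _

theorem Elem.eq_one_of_pow (hS : IsPart S) (hA : Elem S A p) {X : Subgroup G} (hX : X ∈ S)
    (hXp : ¬ IsPGroup p X) {x : G} (hx : x ∈ X) (hxp : x ^ p = 1) : x = 1 := by
  by_contra hx1
  have hAn := hA.normal
  have hpf : Fact p.Prime := ⟨hA.prime⟩
  have h1 : IsPGroup p (zpowers x) := by
    rw [isPGroup_iff_pow_pow_eq_one]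
    rintro ⟨_, k, rfl⟩
    refine ⟨1, Subtype.ext ?_⟩
    change (x ^ k) ^ p ^ 1 = 1
    rw [pow_one, ← zpow_natCast, ← zpow_mul, mul_comm, zpow_mul, zpow_natCast, hxp, one_zpow]
  have h2 : IsPGroup p (A ⊔ zpowers x : Subgroup G) := hA.isPGroup.to_sup_of_normal_left h1
  obtain ⟨a, ha, ha1, hac⟩ := exists_central h2.isNilpotent (le_sup_left : A ≤ A ⊔ zpowers x)
    (by rw [normalizer_eq_top]; exact le_top) hA.ne_bot
  have h3 := hac x ((le_sup_right : zpowers x ≤ A ⊔ zpowers x) (mem_zpowers x))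
  exact ha1 (hA.inf_normalizer hS hX hXp ha (hS.mem_normalizer_of_commute hX hx hx1 h3.symm))

theorem Elem.not_nilpotent (hS : IsPart S) (hA : Elem S A p) {X : Subgroup G} (hX : X ∈ S)
    (hXp : ¬ IsPGroup p X) (hnil : Group.IsNilpotent (A ⊔ X : Subgroup G)) : False := by
  have hAn := hA.normal
  obtain ⟨a, ha, ha1, hac⟩ := exists_central hnil (le_sup_left : A ≤ A ⊔ X)
    (by rw [normalizer_eq_top]; exact le_top) hA.ne_bot
  obtain ⟨x, hx, hx1⟩ := ((X).bot_or_exists_ne_one).resolve_left (hS.ne_bot X hX)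
  have h3 := hac x ((le_sup_right : X ≤ A ⊔ X) hx)
  exact ha1 (hA.inf_normalizer hS hX hXp ha (hS.mem_normalizer_of_commute hX hx hx1 h3.symm))

omit [Finite G] in
theorem Elem.sup_normalizer (hA : Elem S A p) {X : Subgroup G} {g : G}
    (hg : g ∈ normalizer (X : Set G)) : g ∈ normalizer ((A ⊔ X : Subgroup G) : Set G) := by
  have hAn := hA.normal
  have h2 : g ∈ normalizer (A : Set G) := by rw [normalizer_eq_top]; exact mem_top g
  rw [mem_normalizer_iff_map_conj_eq] at h2 hg ⊢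
  rw [Subgroup.map_sup, h2, hg]

/-- `N_G(X) / X` is a `p`-group. -/
theorem Elem.prime_eq (hS : IsPart S) (hA : Elem S A p) {X : Subgroup G} (hX : X ∈ S)
    (hXp : ¬ IsPGroup p X) {g : G} (hg : g ∈ normalizer (X : Set G)) (hgX : g ∉ X) {t : ℕ}
    (ht : t.Prime) (hgt : g ^ t ∈ X) : t = p := by
  by_contra htp
  have hAn := hA.normal
  have hxg := hS.coset_pow hX hg hgX hgt
  refine hA.not_nilpotent hS hX hXp
    (Kegel.isNilpotent_of_coset ht _ G _ g rfl (hA.sup_normalizer hg) ?_)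
  intro u hu
  obtain ⟨a, ha, x, hx, rfl⟩ := mem_sup_of_normal_left.1 hu
  rw [mul_assoc]
  by_contra hne
  have h1 : (a * (x * g)) ^ t ∈ A := by
    have h4 := mul_pow_mem (X := A) (g := x * g) (by rw [normalizer_eq_top]; exact mem_top _) ha t
    rw [hxg x hx, inv_one, mul_one] at h4
    exact h4
  have hw1 : a * (x * g) ≠ 1 := by
    intro h
    rw [h, one_pow] at hne
    exact hne rfl
  obtain ⟨W, hW, hwW⟩ := hS.cover _ hw1
  have hWp : IsPGroup p W := hA.isPGroup_of_inf hS hW (by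
    intro h
    have h2 : (a * (x * g)) ^ t ∈ W ⊓ A := ⟨pow_mem hwW t, h1⟩
    rw [h, mem_bot] at h2
    exact hne h2)
  obtain ⟨k, hk⟩ := (isPGroup_iff_pow_pow_eq_one.1 hWp) ⟨_, hwW⟩
  have hk' : (a * (x * g)) ^ p ^ k = 1 := congrArg Subtype.val hk
  have h2 : a * (x * g) ∈ A := by
    refine mem_of_coprime_pow (m := t) (n := p ^ k) ?_ h1 (by rw [hk']; exact one_mem A)
    exact Nat.Coprime.pow_right k ((Nat.coprime_primes ht hA.prime).2 htp)
  have h3 : x * g ∈ A := (mul_mem_cancel_left ha).1 h2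
  have h4 := hA.inf_normalizer hS hX hXp h3 (mul_mem (le_normalizer hx) hg)
  apply hgX
  have h5 : g = x⁻¹ * (x * g) := by group
  rw [h5, h4, mul_one]
  exact inv_mem hx

end Cfsg.Agent.H550.Part
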