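import Mathlib
import Cfsg.Agent.H550.Part.Elem
import Cfsg.Agent.H550.KegelSum

/-!
# Invariant partitions and normal elementary abelian subgroups, II

If some component which is not a `p`-group is not self-normalizing, then `p = 2` and `|A| = 4`.
-/

set_option autoImplicit false

namespace Cfsg.Agent.H550.Part

open Subgroup

universe u

variable {G : Type u} [Group G] [Finite G] {S : Set (Subgroup G)} {A : Subgroup G} {p : ℕ}

omit [Finite G] in
open scoped IsMulCommutative in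
/-- the norm map `a ↦ (a g)^p`. -/
theorem Elem.exists_norm (hA : Elem S A p) {g : G} (hg : g ^ p = 1) :
    ∃ ν : A → G, (∀ a : A, ν a = (a * g) ^ p) ∧ (∀ a b : A, ν (a * b) = ν a * ν b) ∧
      ∀ a : A, ν a ∈ A := by
  have hAn := hA.normal
  have hAc : IsMulCommutative A := ⟨⟨fun a b => Subtype.ext (hA.comm a a.2 b b.2)⟩⟩
  refine ⟨fun a => ((∏ i ∈ Finset.range p, ((MulAut.conjNormal g : MulAut A) ^ i) a : A) : G), ?_,
    ?_, ?_⟩
  · intro a
    rw [KegelSum.mul_pow_eq A a g p, hg, mul_one]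
  · intro a b
    simp only [map_mul, Finset.prod_mul_distrib, Subgroup.coe_mul]
  · intro a
    exact Subtype.prop _

theorem Elem.main (hS : IsPart S) (hA : Elem S A p) {X : Subgroup G} (hX : X ∈ S)
    (hXp : ¬ IsPGroup p X) (hXn : ¬ normalizer (X : Set G) ≤ X) :
    p = 2 ∧ Nat.card A = 4 ∧ ∃ g ∈ normalizer (X : Set G), g ∉ X ∧ g ^ 2 = 1 := by
  classical
  have hAn := hA.normal
  have hpf : Fact p.Prime := ⟨hA.prime⟩
  obtain ⟨g₀, hg₀, hg₀X⟩ := SetLike.not_le_iff_exists.1 hXn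
  obtain ⟨g, hg, hgX, t, ht, hgt⟩ := exists_prime_pow_mem hg₀ hg₀X
  have htp := hA.prime_eq hS hX hXp hg hgX ht hgt
  subst htp
  have hxg := hS.coset_pow hX hg hgX hgt
  have hgp : g ^ t = 1 := by
    have := hxg 1 (one_mem X)
    rwa [one_mul] at this
  -- `C_X(g) = 1`
  have hCX : ∀ c ∈ X, c * g = g * c → c = 1 := by
    intro c hc hcg
    apply hA.eq_one_of_pow hS hX hXp hc
    have h1 := hxg c hc
    have h2 : Commute c g := hcg
    rw [h2.mul_pow, hgp, mul_one] at h1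
    exact h1
  -- all elements of `X g` are conjugate to `g` under `X`
  have hconj : ∀ x ∈ X, ∃ y ∈ X, x * g = y * g * y⁻¹ := by
    have hmem : ∀ y : X, (y : G) * (g * (y : G)⁻¹ * g⁻¹) ∈ X := fun y =>
      mul_mem y.2 ((mem_normalizer_iff.1 hg _).1 (inv_mem y.2))
    have hinj : Function.Injective (fun y : X => (⟨(y : G) * (g * (y : G)⁻¹ * g⁻¹), hmem y⟩ : X)) := by
      intro a b hab
      have h1 : (a : G) * (g * (a : G)⁻¹ * g⁻¹) = (b : G) * (g * (b : G)⁻¹ * g⁻¹) :=
        congrArg Subtype.val hab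
      have h2 : ((b : G)⁻¹ * a) * g = g * ((b : G)⁻¹ * a) := by
        have h3 : ((b : G)⁻¹ * a) * g = (b : G)⁻¹ * ((a : G) * (g * (a : G)⁻¹ * g⁻¹)) * g * a := by
          group
        rw [h3, h1]
        group
      have h4 := hCX _ (mul_mem (inv_mem b.2) a.2) h2
      exact Subtype.ext (inv_mul_eq_one.1 h4).symm
    intro x hx
    obtain ⟨y, hy⟩ := (Finite.injective_iff_surjective.1 hinj) ⟨x, hx⟩
    refine ⟨y, y.2, ?_⟩
    have h1 : (y : G) * (g * (y : G)⁻¹ * g⁻¹) = x := congrArg Subtype.val hy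
    rw [← h1]
    group
  obtain ⟨ν, hν, hνmul, hνA⟩ := hA.exists_norm hgp
  obtain ⟨a₀, ha₀⟩ : ∃ a₀ : A, ν a₀ ≠ 1 := by
    by_contra hcon
    push Not at hcon
    refine hA.not_nilpotent hS hX hXp
      (Kegel.isNilpotent_of_coset ht _ G _ g rfl (hA.sup_normalizer hg) ?_)
    intro u hu
    obtain ⟨a, ha, x, hx, rfl⟩ := mem_sup_of_normal_left.1 hu
    obtain ⟨y, hy, hxy⟩ := hconj x hx
    have h1 : a * x * g = y * ((y⁻¹ * a * y⁻¹⁻¹) * g) * y⁻¹ := by
      rw [mul_assoc, hxy]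
      group
    rw [h1, conj_pow]
    have h2 := hcon ⟨y⁻¹ * a * y⁻¹⁻¹, hAn.conj_mem a ha y⁻¹⟩
    rw [hν] at h2
    rw [h2]
    group
  -- the component containing `c = ν a₀`
  set c : G := ν a₀ with hc
  have hcA : c ∈ A := hνA a₀
  obtain ⟨W, hW, hcW⟩ := hS.cover c ha₀
  have hcg : c * g = g * c := by
    have h1 : c * (a₀ * g) = (a₀ * g) * c := by
      rw [hc, hν]
      exact (Commute.refl ((a₀ : G) * g)).pow_left t |>.eq
    have h2 : c * a₀ = a₀ * c := hA.comm c hcA a₀ a₀.2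
    have h3 : a₀ * (c * g) = a₀ * (g * c) := by
      rw [← mul_assoc, ← h2, mul_assoc, h1, mul_assoc]
    exact mul_left_cancel h3
  have hin : ∀ a : A, ν a ≠ 1 → (a : G) * g ∈ W := by
    intro a ha
    apply hS.mem_of_commute hW hcW ha₀
    · rw [← mul_assoc, hA.comm c hcA a a.2, mul_assoc, hcg, mul_assoc]
    · rw [hA.orderOf_eq hcA ha₀]
      intro h
      apply ha
      rw [hν, ← h]
      exact pow_orderOf_eq_one _
  have hdiff : ∀ a b : A, ν a ≠ 1 → ν b ≠ 1 → (a : G) * (b : G)⁻¹ ∈ W := by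
    intro a b ha hb
    have h1 := mul_mem (hin a ha) (inv_mem (hin b hb))
    have h2 : (a : G) * g * ((b : G) * g)⁻¹ = (a : G) * (b : G)⁻¹ := by group
    rwa [h2] at h1
  obtain ⟨a₁', ha₁A, ha₁W⟩ := SetLike.not_le_iff_exists.1 (hA.notLe W hW)
  set a₁ : A := ⟨a₁', ha₁A⟩ with ha₁
  have hν1 : ν a₁ ≠ 1 := by
    intro h
    apply ha₁W
    have h1 : ν (a₁ * a₀) ≠ 1 := by
      rw [hνmul, h, one_mul]
      exact ha₀
    have h2 := hdiff (a₁ * a₀) a₀ h1 ha₀
    have h3 : ((a₁ * a₀ : A) : G) * (a₀ : G)⁻¹ = a₁' := by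
      rw [Subgroup.coe_mul, mul_inv_cancel_right]
    rwa [h3] at h2
  have hνb : ∀ b : A, ν b ≠ 1 → ν a₁ * ν b = 1 := by
    intro b hb
    by_contra hne
    apply ha₁W
    rw [← hνmul] at hne
    have h2 := hdiff (a₁ * b) b hne hb
    have h3 : ((a₁ * b : A) : G) * (b : G)⁻¹ = a₁' := by
      rw [Subgroup.coe_mul, mul_inv_cancel_right]
    rwa [h3] at h2
  have hp2 : t = 2 := by
    have h1 : (ν a₁) ^ 2 = 1 := by rw [pow_two]; exact hνb a₁ hν1
    have h2 : orderOf (ν a₁) = t := hA.orderOf_eq (hνA a₁) hν1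
    have h3 := orderOf_dvd_of_pow_eq_one h1
    rw [h2] at h3
    exact (Nat.prime_dvd_prime_iff_eq ht Nat.prime_two).1 h3
  subst hp2
  refine ⟨rfl, ?_, g, hg, hgX, hgp⟩
  -- `C_A(g)` has index at most 2
  have hgg : g * g = 1 := by rw [← pow_two]; exact hgp
  have hAA : ∀ a ∈ A, a * a = 1 := fun a ha => by rw [← pow_two]; exact hA.pow a ha
  have hcent : ∀ a : A, ν a = 1 → (a : G) ∈ centralizer ({g} : Set G) := by
    intro a ha
    rw [mem_centralizer_singleton_iff]
    rw [hν, pow_two] at ha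
    have h1 := hAA a a.2
    have h2 : (a : G) * g * (a * g) = 1 := ha
    have h3 : (a : G) * g = ((a : G) * g)⁻¹ := eq_inv_of_mul_eq_one_left h2
    rw [mul_inv_rev] at h3
    have h4 : g⁻¹ = g := inv_eq_of_mul_eq_one_left hgg
    have h5 : (a : G)⁻¹ = a := inv_eq_of_mul_eq_one_left h1
    rw [h4, h5] at h3
    exact h3
  set D : Subgroup G := centralizer ({g} : Set G) with hD
  have hD2 : D.relIndex A = 2 := by
    rw [relIndex_eq_two_iff_exists_notMem_and']
    refine ⟨a₁', ha₁A, ?_, ?_⟩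
    · intro h
      apply hν1
      have h1 : a₁' * g = g * a₁' := mem_centralizer_singleton_iff.1 h
      have h2 : Commute a₁' g := h1
      rw [hν]
      change (a₁' * g) ^ 2 = 1
      rw [h2.mul_pow, hgp, hA.pow a₁' ha₁A, one_mul]
    · intro b hb
      by_cases h : ν ⟨b, hb⟩ = 1
      · exact Or.inr (hcent _ h)
      · left
        have h2 := hνb ⟨b, hb⟩ h
        rw [← hνmul] at h2
        exact hcent _ h2
  obtain ⟨x, hx, hx1⟩ := ((X).bot_or_exists_ne_one).resolve_left (hS.ne_bot X hX)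
  set D' : Subgroup G := D.map (MulAut.conj x).toMonoidHom with hD'
  have hD'2 : D'.relIndex A = 2 := by
    have h1 : A.map (MulAut.conj x).toMonoidHom = A :=
      mem_normalizer_iff_map_conj_eq.1 (by rw [normalizer_eq_top]; exact mem_top x)
    conv_lhs => rw [← h1]
    rw [hD', relIndex_map_map_of_injective _ _ (MulAut.conj x).injective, hD2]
  have hinf : (D ⊓ D') ⊓ A = ⊥ := by
    rw [eq_bot_iff]
    intro b hb
    obtain ⟨⟨hbD, hbD'⟩, hbA⟩ := hb
    obtain ⟨d, hd, hdb⟩ := hbD'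
    have hdb' : x * d * x⁻¹ = b := hdb
    have hdg : d * g = g * d := mem_centralizer_singleton_iff.1 hd
    have hbg : b * g = g * b := mem_centralizer_singleton_iff.1 hbD
    have hbg' : b * (x * g * x⁻¹) = (x * g * x⁻¹) * b := by
      rw [← hdb']
      have h1 : x * d * x⁻¹ * (x * g * x⁻¹) = x * (d * g) * x⁻¹ := by group
      rw [h1, hdg]
      group
    have he : x * (g * x⁻¹ * g⁻¹) ∈ X :=
      mul_mem hx ((mem_normalizer_iff.1 hg _).1 (inv_mem hx))
    have he1 : x * (g * x⁻¹ * g⁻¹) ≠ 1 := by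
      intro h
      apply hx1
      apply hCX x hx
      have h1 : x * (g * x⁻¹ * g⁻¹) * (g * x) = x * g := by group
      rw [h, one_mul] at h1
      exact h1.symm
    have hbe : b * (x * (g * x⁻¹ * g⁻¹)) = (x * (g * x⁻¹ * g⁻¹)) * b := by
      have h1 : x * (g * x⁻¹ * g⁻¹) = (x * g * x⁻¹) * g⁻¹ := by group
      have h2 : Commute b (x * g * x⁻¹) := hbg'
      have h3 : Commute b g := hbg
      rw [h1]
      exact (h2.mul_right h3.inv_right).eq
    exact hA.inf_normalizer hS hX hXp hbA (hS.mem_normalizer_of_commute hX he he1 hbe)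
  have hle4 : Nat.card A ≤ 4 := by
    have h1 := relIndex_inf_le (H := D) (K := D') (L := A)
    rw [hD2, hD'2, ← inf_relIndex_right, hinf, relIndex_bot_left] at h1
    exact h1
  obtain ⟨n, hn⟩ := IsPGroup.iff_card.mp hA.isPGroup
  have hAcard1 : Nat.card A ≠ 1 := fun h => hA.ne_bot (Subgroup.eq_bot_of_card_eq A h)
  have hAcard2 : Nat.card A ≠ 2 := by
    intro h
    -- the unique nontrivial element of `A` commutes with `x`
    obtain ⟨a, ha, ha1⟩ := (A.bot_or_exists_ne_one).resolve_left hA.ne_bot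
    have h1 : x * a * x⁻¹ ∈ A := hAn.conj_mem a ha x
    have h2 : x * a * x⁻¹ ≠ 1 := fun h => ha1 (conj_eq_one_iff.1 h)
    have h3 : x * a * x⁻¹ = a := by
      obtain ⟨y, -, hy⟩ := (Nat.card_eq_two_iff' (1 : A)).1 h
      have h4 := hy ⟨x * a * x⁻¹, h1⟩ (fun h => h2 (congrArg Subtype.val h))
      have h5 := hy ⟨a, ha⟩ (fun h => ha1 (congrArg Subtype.val h))
      exact congrArg Subtype.val (h4.trans h5.symm)
    have h6 : a * x = x * a := (mul_inv_eq_iff_eq_mul.1 h3).symm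
    exact ha1 (hA.inf_normalizer hS hX hXp ha (hS.mem_normalizer_of_commute hX hx hx1 h6))
  rw [hn] at hle4 hAcard1 hAcard2 ⊢
  have hn2 : n ≤ 2 := by
    by_contra h
    push Not at h
    have h1 : 2 ^ 3 ≤ 2 ^ n := Nat.pow_le_pow_right (by norm_num) h
    omega
  interval_cases n <;> omega

end Cfsg.Agent.H550.Part
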