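import Mathlib
import Cfsg.Agent.H550.Part.Elem2

/-!
# Invariant partitions and normal elementary abelian subgroups, III

The conclusion: `G` has a Frobenius complement, or a proper Hughes subgroup, or is `S₄`.
-/

set_option autoImplicit false

namespace Cfsg.Agent.H550.Part

open Subgroup

universe u

variable {G : Type u} [Group G] [Finite G] {S : Set (Subgroup G)} {A : Subgroup G} {p : ℕ}

theorem card_mulAut_le {A : Type*} [Group A] [Finite A] (h : Nat.card A = 4) :
    Nat.card (MulAut A) ≤ 6 := by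
  classical
  have := Fintype.ofFinite A
  let f : MulAut A → Equiv.Perm {a : A // a ≠ 1} := fun σ =>
    σ.toEquiv.subtypeEquiv (fun a => by
      change a ≠ 1 ↔ σ a ≠ 1
      rw [Ne, Ne, map_eq_one_iff σ σ.injective])
  have hf : Function.Injective f := by
    intro σ τ hστ
    ext a
    by_cases ha : a = 1
    · rw [ha, map_one, map_one]
    · exact congrArg (fun e : Equiv.Perm {a : A // a ≠ 1} => ((e ⟨a, ha⟩ : {a : A // a ≠ 1}) : A)) hστ
  have h1 := Nat.card_le_card_of_injective f hf
  have h2 : Nat.card (Equiv.Perm {a : A // a ≠ 1}) = 6 := by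
    rw [Nat.card_perm, Nat.card_eq_fintype_card, Fintype.card_subtype_compl, Fintype.card_subtype_eq,
      ← Nat.card_eq_fintype_card, h]
    rfl
  rwa [h2] at h1

theorem Elem.perm_four (hS : IsPart S) (hA : Elem S A p) {X : Subgroup G} (hX : X ∈ S)
    (hXp : ¬ IsPGroup p X) (hXn : ¬ normalizer (X : Set G) ≤ X) :
    Nonempty (G ≃* Equiv.Perm (Fin 4)) := by
  classical
  have hAn := hA.normal
  obtain ⟨rfl, hcardA, g, hg, hgX, hg2⟩ := hA.main hS hX hXp hXn
  set C : Subgroup G := centralizer (A : Set G) with hC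
  have hAC : A ≤ C := by
    intro a ha
    rw [hC, mem_centralizer_iff]
    intro b hb
    exact hA.comm b hb a ha
  have hC2 : ∀ c ∈ C, c ^ 2 = 1 := by
    intro c hc
    by_contra hne
    have hc1 : c ≠ 1 := by
      rintro rfl
      exact hne (one_pow 2)
    obtain ⟨W, hW, hcW⟩ := hS.cover c hc1
    apply hA.notLe W hW
    intro a ha
    by_cases ha1 : a = 1
    · rw [ha1]; exact one_mem W
    apply hS.mem_of_commute hW hcW hc1
    · exact (mem_centralizer_iff.1 hc a ha).symm
    · rw [hA.orderOf_eq ha ha1]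
      intro h
      apply hne
      rw [h]
      exact pow_orderOf_eq_one c
  have hCe : Elem S C 2 := by
    refine ⟨Nat.prime_two, inferInstance, ?_, hC2, ?_, ?_⟩
    · intro a ha b hb
      have h1 := hC2 (a * b) (mul_mem ha hb)
      have h2 := hC2 a ha
      have h3 := hC2 b hb
      rw [pow_two] at h1 h2 h3
      have h4 : a * b = (a * b)⁻¹ := eq_inv_of_mul_eq_one_left h1
      rw [mul_inv_rev, inv_eq_of_mul_eq_one_left h2, inv_eq_of_mul_eq_one_left h3] at h4
      exact h4
    · intro h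
      exact hA.ne_bot (le_bot_iff.1 (hAC.trans h.le))
    · intro Y hY h
      exact hA.notLe Y hY (hAC.trans h)
  obtain ⟨-, hcardC, -⟩ := hCe.main hS hX hXp hXn
  have hCA : A = C := Subgroup.eq_of_le_of_card_ge hAC (by rw [hcardA, hcardC])
  set M : Subgroup G := normalizer (X : Set G) with hM
  have hAM : ∀ n ∈ A, n ∈ M → n = 1 := fun n hn hnM => hA.inf_normalizer hS hX hXp hn hnM
  have h2f : Fact (Nat.Prime 2) := ⟨Nat.prime_two⟩
  have hXodd : ¬ 2 ∣ Nat.card X := by
    intro h
    obtain ⟨x, hx⟩ := exists_prime_orderOf_dvd_card' 2 h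
    have h1 : (x : G) ^ 2 = 1 := by
      have h3 : x ^ 2 = 1 := by rw [← hx]; exact pow_orderOf_eq_one x
      exact congrArg Subtype.val h3
    have h2 := hA.eq_one_of_pow hS hX hXp x.2 h1
    have h3 : x = 1 := Subtype.ext h2
    rw [h3, orderOf_one] at hx
    omega
  have hXcard : 3 ≤ Nat.card X := by
    have h1 : Nat.card X ≠ 1 := fun h => hS.ne_bot X hX (Subgroup.eq_bot_of_card_eq X h)
    have h2 : Nat.card X ≠ 0 := Nat.card_pos.ne'
    have h3 : Nat.card X ≠ 2 := fun h => hXodd (by rw [h])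
    omega
  have hg1 : g ≠ 1 := by
    rintro rfl
    exact hgX (one_mem X)
  have hMcard : 6 ≤ Nat.card M := by
    have h1 : Nat.card X ∣ Nat.card M := Subgroup.card_dvd_of_le le_normalizer
    have h2 : 2 ∣ Nat.card M := by
      have h3 : orderOf g = 2 := orderOf_eq_prime_iff.2 ⟨hg2, hg1⟩
      rw [← h3]
      exact Subgroup.orderOf_dvd_natCard M hg
    have h3 : Nat.Coprime 2 (Nat.card X) := (Nat.Prime.coprime_iff_not_dvd Nat.prime_two).2 hXodd
    have h4 := Nat.le_of_dvd Nat.card_pos (h3.mul_dvd_of_dvd_of_dvd h2 h1)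
    omega
  have hMle : Nat.card M ≤ Nat.card (G ⧸ A) := by
    refine Nat.card_le_card_of_injective
      (fun m : M => (QuotientGroup.mk' A) (m : G)) ?_
    intro a b hab
    have h1 : (a : G)⁻¹ * b ∈ A := QuotientGroup.eq.1 hab
    have h2 := hAM _ h1 (mul_mem (inv_mem a.2) b.2)
    exact Subtype.ext (inv_mul_eq_one.1 h2)
  have hGA : Nat.card (G ⧸ A) ≤ 6 := by
    set φ : G →* MulAut A := MulAut.conjNormal with hφ
    have hker : φ.ker = A := by
      refine Eq.trans ?_ hCA.symm
      ext x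
      rw [MonoidHom.mem_ker, hC, mem_centralizer_iff]
      constructor
      · intro h a ha
        have h1 : ((φ x) ⟨a, ha⟩ : G) = a := by rw [h]; rfl
        rw [hφ, MulAut.conjNormal_apply] at h1
        exact (mul_inv_eq_iff_eq_mul.1 h1).symm
      · intro h
        ext a
        rw [hφ, MulAut.conjNormal_apply]
        rw [← h a a.2, mul_inv_cancel_right]
        rfl
    have h1 : Nat.card (G ⧸ φ.ker) ≤ Nat.card (MulAut A) :=
      Nat.card_le_card_of_injective _ (QuotientGroup.kerLift_injective φ)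
    rw [hker] at h1
    exact h1.trans (card_mulAut_le hcardA)
  have hcardG : Nat.card G = 24 := by
    rw [Subgroup.card_eq_card_quotient_mul_card_subgroup A, hcardA]
    omega
  have hcardM : Nat.card M = 6 := by omega
  have hidx : Nat.card (G ⧸ M) = 4 := by
    have h1 := Subgroup.card_eq_card_quotient_mul_card_subgroup M
    rw [hcardG, hcardM] at h1
    omega
  have hinj : Function.Injective (MulAction.toPermHom G (G ⧸ M)) := by
    rw [← MonoidHom.ker_eq_bot_iff, ← Subgroup.normalCore_eq_ker, eq_bot_iff]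
    intro x hx
    rw [mem_bot]
    have hxM : x ∈ M := normalCore_le M hx
    apply hAM x _ hxM
    refine hCA.ge ?_
    rw [hC, mem_centralizer_iff]
    intro a ha
    have ha' : a ∈ A := ha
    have h1 : a * x * a⁻¹ * x⁻¹ ∈ M := mul_mem
      (normalCore_le M ((normalCore_normal M).conj_mem x hx a)) (inv_mem hxM)
    have h2 : a * x * a⁻¹ * x⁻¹ ∈ A := by
      have h3 : a * x * a⁻¹ * x⁻¹ = a * (x * a⁻¹ * x⁻¹) := by group
      rw [h3]
      exact mul_mem ha' (hAn.conj_mem _ (inv_mem ha') x)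
    have h4 := hAM _ h2 h1
    have h5 : a * x * a⁻¹ * x⁻¹ * (x * a) = a * x := by group
    rw [h4, one_mul] at h5
    exact h5.symm
  have hcardP : Nat.card (Equiv.Perm (G ⧸ M)) = Nat.card G := by
    rw [Nat.card_perm, hidx, hcardG]
    rfl
  have hbij : Function.Bijective (MulAction.toPermHom G (G ⧸ M)) :=
    (Nat.bijective_iff_injective_and_card _).2 ⟨hinj, hcardP.symm⟩
  have e : (G ⧸ M) ≃ Fin 4 := by
    rw [← hidx]
    exact Finite.equivFin _
  exact ⟨(MulEquiv.ofBijective _ hbij).trans (Equiv.permCongrHom e)⟩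

/-- **Invariant partitions of a group with a normal elementary abelian subgroup.** -/
theorem Elem.concl (hS : IsPart S) (hA : Elem S A p) :
    Nonempty (G ≃* Equiv.Perm (Fin 4)) ∨
    (∃ p : ℕ, p.Prime ∧ closure {g : G | g ^ p ≠ 1} ≠ ⊤) ∨
      ∃ H : Subgroup G, IsFrobeniusComplement H := by
  classical
  have hpf : Fact p.Prime := ⟨hA.prime⟩
  by_cases hall : ∀ X ∈ S, IsPGroup p X
  · -- `G` is a `p`-group
    have hGp : IsPGroup p G := by
      rw [isPGroup_iff_pow_pow_eq_one]
      intro g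
      by_cases hg1 : g = 1
      · exact ⟨0, by rw [hg1, one_pow]⟩
      obtain ⟨X, hX, hgX⟩ := hS.cover g hg1
      obtain ⟨k, hk⟩ := (isPGroup_iff_pow_pow_eq_one.1 (hall X hX)) ⟨g, hgX⟩
      exact ⟨k, congrArg Subtype.val hk⟩
    obtain ⟨a, ha, ha1⟩ := (A.bot_or_exists_ne_one).resolve_left hA.ne_bot
    have hnt : Nontrivial G := ⟨⟨a, 1, ha1⟩⟩
    have hc := hGp.center_nontrivial
    obtain ⟨z, hz, hz1⟩ := (nontrivial_iff_exists_ne_one _).1 hc
    obtain ⟨X, hX, hzX⟩ := hS.cover z hz1
    right; left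
    have hXtop : X ≠ ⊤ := by
      rintro rfl
      exact hS.top hX
    obtain ⟨y, -, hy⟩ := SetLike.exists_of_lt (lt_top_iff_ne_top.2 hXtop)
    have h1 := hS.prime_of_commute hX hzX hz1 hy (mem_center_iff.1 hz y).symm
    refine ⟨orderOf z, h1.1, hughes_of_forall hXtop (fun g hg => ?_)⟩
    have h2 := hS.prime_of_commute hX hzX hz1 hg (mem_center_iff.1 hz g).symm
    rw [← h2.2]
    exact pow_orderOf_eq_one g
  · push Not at hall
    obtain ⟨X, hX, hXp⟩ := hall
    by_cases hXn : normalizer (X : Set G) ≤ X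
    · exact Or.inr (Or.inr ⟨X, hS.isFrobeniusComplement hX hXn⟩)
    · exact Or.inl (hA.perm_four hS hX hXp hXn)

/-- **Invariant partitions of a group with a nontrivial normal elementary abelian subgroup.** -/
theorem IsPart.concl_of_elementary (hS : IsPart S) (A : Subgroup G) [hAn : A.Normal] {p : ℕ}
    (hp : p.Prime) (hAc : ∀ a ∈ A, ∀ b ∈ A, a * b = b * a) (hAp : ∀ a ∈ A, a ^ p = 1)
    (hA1 : A ≠ ⊥) :
    Nonempty (G ≃* Equiv.Perm (Fin 4)) ∨
    (∃ p : ℕ, p.Prime ∧ closure {g : G | g ^ p ≠ 1} ≠ ⊤) ∨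
      ∃ H : Subgroup G, IsFrobeniusComplement H := by
  by_cases hle : ∃ X ∈ S, A ≤ X
  · obtain ⟨X, hX, hAX⟩ := hle
    have hXn : X.Normal := by
      rw [← normalizer_eq_top_iff, eq_top_iff]
      intro g _
      obtain ⟨a, ha, ha1⟩ := (A.bot_or_exists_ne_one).resolve_left hA1
      exact hS.mem_normalizer hX (hAX ha) ha1 (hAX (hAn.conj_mem a ha g))
    exact Or.inr (hS.concl_of_normal hX)
  · push Not at hle
    exact Elem.concl hS ⟨hp, hAn, hAc, hAp, hA1, hle⟩

end Cfsg.Agent.H550.Part
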