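import Mathlib
import Cfsg.Agent.H550.Part.SFour
import Cfsg.Agent.Lib.SolvableMinNormal

/-!
# Invariant partitions: from a partition to an invariant partition; solvable normal subgroups
-/

set_option autoImplicit false

namespace Cfsg.Agent.H550.Part

open Subgroup

universe u

variable {G : Type u} [Group G] {S : Set (Subgroup G)}

/-- the component of `x` in the common refinement of the conjugates of `S`. -/
def cmp (S : Set (Subgroup G)) (x : G) : Subgroup G where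
  carrier := {y | ∀ g : G, ∀ H ∈ S, g * x * g⁻¹ ∈ H → g * y * g⁻¹ ∈ H}
  one_mem' := by
    intro g H _ _
    rw [mul_one, mul_inv_cancel]
    exact one_mem H
  mul_mem' := by
    intro a b ha hb g H hH hx
    have h1 := mul_mem (ha g H hH hx) (hb g H hH hx)
    have h2 : g * a * g⁻¹ * (g * b * g⁻¹) = g * (a * b) * g⁻¹ := by group
    rwa [h2] at h1
  inv_mem' := by
    intro a ha g H hH hx
    have h1 := inv_mem (ha g H hH hx)
    have h2 : (g * a * g⁻¹)⁻¹ = g * a⁻¹ * g⁻¹ := by group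
    rwa [h2] at h1

theorem mem_cmp {x y : G} :
    y ∈ cmp S x ↔ ∀ g : G, ∀ H ∈ S, g * x * g⁻¹ ∈ H → g * y * g⁻¹ ∈ H := Iff.rfl

theorem self_mem_cmp (x : G) : x ∈ cmp S x := fun _ _ _ h => h

theorem cmp_le {x : G} {H : Subgroup G} (hH : H ∈ S) (hx : x ∈ H) : cmp S x ≤ H := by
  intro y hy
  have h1 := hy 1 H hH (by simpa using hx)
  simpa using h1

theorem cmp_eq (hpart : ∀ g : G, g ≠ 1 → ∃! H : Subgroup G, H ∈ S ∧ g ∈ H) {x y : G}
    (hx : x ≠ 1) (hy : y ≠ 1) (hyx : y ∈ cmp S x) : cmp S y = cmp S x := by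
  apply le_antisymm
  · intro z hz g H hH h
    exact hz g H hH (hyx g H hH h)
  · intro z hz g H hH h
    have hx' : g * x * g⁻¹ ≠ 1 := fun h => hx (conj_eq_one_iff.1 h)
    have hy' : g * y * g⁻¹ ≠ 1 := fun h => hy (conj_eq_one_iff.1 h)
    obtain ⟨K, ⟨hK, hxK⟩, -⟩ := hpart _ hx'
    have h1 := hyx g K hK hxK
    have h2 : H = K := (hpart _ hy').unique ⟨hH, h⟩ ⟨hK, h1⟩
    rw [h2]
    exact hz g K hK hxK

theorem map_cmp (x h : G) :
    (cmp S x).map (MulAut.conj h).toMonoidHom = cmp S (h * x * h⁻¹) := by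
  ext z
  rw [mem_map]
  constructor
  · rintro ⟨y, hy, rfl⟩ g H hH hg
    have h1 := hy (g * h) H hH (by
      have h2 : g * h * x * (g * h)⁻¹ = g * (h * x * h⁻¹) * g⁻¹ := by group
      rwa [h2])
    have h2 : g * h * y * (g * h)⁻¹ = g * (h * y * h⁻¹) * g⁻¹ := by group
    rwa [h2] at h1
  · intro hz
    refine ⟨h⁻¹ * z * h, ?_, ?_⟩
    · intro g H hH hg
      have h1 := hz (g * h⁻¹) H hH (by
        have h2 : g * h⁻¹ * (h * x * h⁻¹) * (g * h⁻¹)⁻¹ = g * x * g⁻¹ := by group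
        rwa [h2])
      have h2 : g * h⁻¹ * z * (g * h⁻¹)⁻¹ = g * (h⁻¹ * z * h) * g⁻¹ := by group
      rwa [h2] at h1
    · change h * (h⁻¹ * z * h) * h⁻¹ = z
      group

/-- **Every partition refines to an invariant one.** -/
theorem exists_isPart (hS2 : ∃ H ∈ S, ∃ K ∈ S, H ≠ K) (hS1 : ∀ H ∈ S, H ≠ ⊥)
    (hpart : ∀ g : G, g ≠ 1 → ∃! H : Subgroup G, H ∈ S ∧ g ∈ H) :
    ∃ S' : Set (Subgroup G), IsPart S' := by
  refine ⟨{K | ∃ x : G, x ≠ 1 ∧ cmp S x = K}, ?_, ?_, ?_, ?_, ?_⟩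
  · rintro K ⟨x, hx, rfl⟩ h
    have h1 := self_mem_cmp (S := S) x
    rw [h, mem_bot] at h1
    exact hx h1
  · intro g hg
    exact ⟨cmp S g, ⟨g, hg, rfl⟩, self_mem_cmp g⟩
  · rintro H ⟨x, hx, rfl⟩ K ⟨y, hy, rfl⟩ g hg hgx hgy
    rw [← cmp_eq hpart hx hg hgx, ← cmp_eq hpart hy hg hgy]
  · rintro H ⟨x, hx, rfl⟩ g
    exact ⟨g * x * g⁻¹, fun h => hx (conj_eq_one_iff.1 h), (map_cmp x g).symm⟩
  · rintro ⟨x, hx, hxt⟩
    obtain ⟨H, ⟨hH, hxH⟩, -⟩ := hpart x hx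
    have hHt : H = ⊤ := by
      rw [eq_top_iff, ← hxt]
      exact cmp_le hH hxH
    have huniq : ∀ K ∈ S, K = H := by
      intro K hK
      obtain ⟨k, hk, hk1⟩ := (K.bot_or_exists_ne_one).resolve_left (hS1 K hK)
      exact (hpart k hk1).unique ⟨hK, hk⟩ ⟨hH, hHt ▸ mem_top k⟩
    obtain ⟨K, hK, L, hL, hne⟩ := hS2
    exact hne ((huniq K hK).trans (huniq L hL).symm)

/-- a nontrivial solvable normal subgroup gives a nontrivial elementary abelian one. -/
theorem exists_elementary [Finite G] (N : Subgroup G) [hN : N.Normal] [hs : Group.IsSolvable N]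
    (hN1 : N ≠ ⊥) :
    ∃ (p : ℕ) (A : Subgroup G), p.Prime ∧ A.Normal ∧ (∀ a ∈ A, ∀ b ∈ A, a * b = b * a) ∧
      (∀ a ∈ A, a ^ p = 1) ∧ A ≠ ⊥ := by
  have hnt : Nontrivial N := (Subgroup.nontrivial_iff_ne_bot N).2 hN1
  obtain ⟨p, hp, K, hKc, hKab, hKp, hK1⟩ :=
    Cfsg.Agent.Lib.SolvableMinNormal.exists_characteristic_pgroup (G := N)
  have hpf : Fact p.Prime := ⟨hp⟩
  have hK : (K.map N.subtype).Normal := inferInstance
  have hcomm : ∀ a ∈ K.map N.subtype, ∀ b ∈ K.map N.subtype, a * b = b * a := by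
    rintro _ ⟨a, ha, rfl⟩ _ ⟨b, hb, rfl⟩
    have h1 : a * b = b * a := by
      have := hKab.is_comm.comm ⟨a, ha⟩ ⟨b, hb⟩
      exact congrArg Subtype.val this
    change (a : G) * b = b * a
    exact congrArg Subtype.val h1
  let A : Subgroup G :=
    { carrier := {x | x ∈ K.map N.subtype ∧ x ^ p = 1}
      one_mem' := ⟨one_mem _, one_pow p⟩
      mul_mem' := by
        rintro a b ⟨ha, hap⟩ ⟨hb, hbp⟩
        refine ⟨mul_mem ha hb, ?_⟩
        rw [(show Commute a b from hcomm a ha b hb).mul_pow, hap, hbp, one_mul]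
      inv_mem' := by
        rintro a ⟨ha, hap⟩
        exact ⟨inv_mem ha, by rw [inv_pow, hap, inv_one]⟩ }
  refine ⟨p, A, hp, ⟨?_⟩, ?_, fun a ha => ha.2, ?_⟩
  · rintro n ⟨hn, hnp⟩ g
    refine ⟨hK.conj_mem n hn g, ?_⟩
    rw [conj_pow, hnp, mul_one, mul_inv_cancel]
  · rintro a ⟨ha, -⟩ b ⟨hb, -⟩
    exact hcomm a ha b hb
  · intro h
    have hK1' : Nontrivial K := (Subgroup.nontrivial_iff_ne_bot K).2 hK1
    obtain ⟨n, hn⟩ := (IsPGroup.iff_card.1 hKp)
    have hdvd : p ∣ Nat.card K := by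
      rw [hn]
      apply dvd_pow_self
      rintro rfl
      rw [pow_zero] at hn
      exact hK1 (Subgroup.eq_bot_of_card_eq K hn)
    obtain ⟨x, hx⟩ := exists_prime_orderOf_dvd_card' p hdvd
    have hx1 : ((x : N) : G) ∈ A := by
      refine ⟨⟨x, x.2, rfl⟩, ?_⟩
      have h1 : x ^ p = 1 := by rw [← hx]; exact pow_orderOf_eq_one x
      exact congrArg (fun y : K => ((y : N) : G)) h1
    rw [h, mem_bot] at hx1
    have h2 : x = 1 := Subtype.ext (Subtype.ext hx1)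
    rw [h2, orderOf_one] at hx
    exact hp.one_lt.ne hx

/-- **Invariant partitions of a group with a nontrivial solvable normal subgroup.** -/
theorem IsPart.concl_of_solvable [Finite G] (hS : IsPart S) (N : Subgroup G) [N.Normal]
    [Group.IsSolvable N] (hN1 : N ≠ ⊥) :
    Nonempty (G ≃* Equiv.Perm (Fin 4)) ∨
    (∃ p : ℕ, p.Prime ∧ closure {g : G | g ^ p ≠ 1} ≠ ⊤) ∨
      ∃ H : Subgroup G, IsFrobeniusComplement H := by
  obtain ⟨p, A, hp, hA, hAc, hAp, hA1⟩ := exists_elementary N hN1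
  exact hS.concl_of_elementary A hp hAc hAp hA1

end Cfsg.Agent.H550.Part
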