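import Mathlib
import Cfsg.Agent.Cit.Nil.LO.NdField

/-!
# Squares in finite fields and automorphisms of order two
-/

set_option autoImplicit false

namespace Cfsg.Agent.H550.Part

variable {F : Type*} [Field F]

theorem isSquare_map_iff (σ : F ≃+* F) (a : F) : IsSquare (σ a) ↔ IsSquare a := by
  constructor
  · rintro ⟨b, hb⟩
    refine ⟨σ.symm b, ?_⟩
    rw [← map_mul, ← hb, RingEquiv.symm_apply_apply]
  · rintro ⟨b, hb⟩
    exact ⟨σ b, by rw [hb, map_mul]⟩

theorem isSquare_mul_map [Finite F] (σ : F ≃+* F) (a : F) : IsSquare (a * σ a) := by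
  by_cases h : IsSquare a
  · exact h.mul ((isSquare_map_iff σ a).2 h)
  · exact Cfsg.Agent.LOC.NdField.isSquare_mul_of_not h (fun h' => h ((isSquare_map_iff σ a).1 h'))

/-- elements fixed by an automorphism of order two are squares -/
theorem isSquare_of_fixed [Finite F] (h2 : (2 : F) ≠ 0) {σ : F ≃+* F} (hσ : σ ≠ 1)
    (hσ2 : σ * σ = 1) {x : F} (hx : σ x = x) : IsSquare x := by
  classical
  have := Fintype.ofFinite F
  by_cases hx0 : x = 0
  · exact ⟨0, by rw [hx0, mul_zero]⟩
  let K : Subfield F := FixedPoints.subfield (Subgroup.zpowers σ) F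
  have hfinF : Finite (F ≃+* F) := Finite.of_injective (fun τ : F ≃+* F => (τ : F → F))
    DFunLike.coe_injective
  have hft : Fintype (Subgroup.zpowers σ) := Fintype.ofFinite _
  have hcard : Fintype.card (Subgroup.zpowers σ) = 2 := by
    rw [← Nat.card_eq_fintype_card, Nat.card_zpowers]
    exact orderOf_eq_prime (by rw [pow_two]; exact hσ2) hσ
  have hrank := FixedPoints.finrank_eq_card (Subgroup.zpowers σ) F
  rw [hcard] at hrank
  have hcF := Module.card_eq_pow_finrank (K := K) (V := F)
  rw [hrank] at hcF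
  have hxK : x ∈ K := by
    rintro ⟨τ, hτ⟩
    obtain ⟨k, hk⟩ := Subgroup.mem_zpowers_iff.1 hτ
    change τ x = x
    rw [← hk]
    have hstab : σ ∈ MulAction.stabilizer (F ≃+* F) x := hx
    exact Subgroup.zpow_mem _ hstab k
  have hqodd : Fintype.card F % 2 = 1 := by
    apply FiniteField.odd_card_of_char_ne_two
    intro h
    apply h2
    have : CharP F 2 := by rw [← h]; exact ringChar.charP F
    exact_mod_cast CharP.cast_eq_zero F 2
  have hchar : ringChar F ≠ 2 := by
    intro h
    apply h2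
    have : CharP F 2 := by rw [← h]; exact ringChar.charP F
    exact_mod_cast CharP.cast_eq_zero F 2
  rw [FiniteField.isSquare_iff hchar hx0]
  set c := Fintype.card K with hc
  have hc1 : x ^ (c - 1) = 1 := by
    have h1 : (⟨x, hxK⟩ : K) ≠ 0 := fun h => hx0 (congrArg Subtype.val h)
    have h3 := FiniteField.pow_card_sub_one_eq_one (⟨x, hxK⟩ : K) h1
    exact congrArg Subtype.val h3
  have hcodd : c % 2 = 1 := by
    rw [hcF] at hqodd
    rcases Nat.even_or_odd c with he | ho
    · exfalso
      have : Even (c ^ 2) := he.pow_of_ne_zero (by norm_num)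
      rw [Nat.even_iff] at this
      omega
    · exact Nat.odd_iff.1 ho
  obtain ⟨s, hs⟩ : ∃ s, c = 2 * s + 1 := ⟨c / 2, by omega⟩
  have h4 : Fintype.card F / 2 = (c - 1) * (s + 1) := by
    rw [hcF, hs]
    have : (2 * s + 1) ^ 2 = 2 * (2 * s * (s + 1)) + 1 := by ring
    rw [this]
    have h5 : 2 * s + 1 - 1 = 2 * s := by omega
    rw [h5]
    omega
  rw [h4, pow_mul, hc1, one_pow]

/-- Hilbert 90: `d σ(d) = λ²`, `λ` fixed, forces `d` to be a square. -/
theorem isSquare_of_norm [Finite F] (h2 : (2 : F) ≠ 0) {σ : F ≃+* F} (hσ : σ ≠ 1)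
    (hσ2 : σ * σ = 1) {d l : F} (hd : d ≠ 0) (hl : σ l = l) (h : d * σ d = l * l) :
    IsSquare d := by
  have hσσ : ∀ a, σ (σ a) = a := fun a => DFunLike.congr_fun hσ2 a
  have hl0 : l ≠ 0 := by
    rintro rfl
    rw [mul_zero] at h
    rcases mul_eq_zero.1 h with h | h
    · exact hd h
    · exact hd ((map_eq_zero_iff σ σ.injective).1 h)
  have hls : IsSquare l := isSquare_of_fixed h2 hσ hσ2 hl
  set y := d / l with hy
  have hdy : d = l * y := by rw [hy]; field_simp
  have hy0 : y ≠ 0 := div_ne_zero hd hl0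
  have hyy : y * σ y = 1 := by
    rw [hy, map_div₀, hl, div_mul_div_comm, h, div_self (mul_ne_zero hl0 hl0)]
  rw [hdy]
  refine hls.mul ?_
  by_cases hy1 : 1 + y = 0
  · apply isSquare_of_fixed h2 hσ hσ2
    have : y = -1 := by linear_combination hy1
    rw [this, map_neg, map_one]
  · -- `y = c² / (c σ c)` with `c = 1 + y`
    have hc : σ (1 + y) * y = 1 + y := by
      rw [map_add, map_one]
      linear_combination hyy
    have hcc : IsSquare ((1 + y) * σ (1 + y)) := by
      apply isSquare_of_fixed h2 hσ hσ2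
      rw [map_mul, hσσ, mul_comm]
    have hσc : σ (1 + y) ≠ 0 := fun h => hy1 ((map_eq_zero_iff σ σ.injective).1 h)
    have h3 : y = ((1 + y) * (1 + y)) / ((1 + y) * σ (1 + y)) := by
      rw [eq_div_iff (mul_ne_zero hy1 hσc)]
      linear_combination (1 + y) * hc
    rw [h3]
    exact (IsSquare.mul_self _).div hcc

end Cfsg.Agent.H550.Part
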