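import Mathlib
import Cfsg.Agent.Lib.AutSL2
import Cfsg.Agent.Lib.PSL2Torus
import Cfsg.Agent.H550.Part.FieldSq

/-!
# Groups acting on a normal `PSL(2,F)`: semilinear description

`Act π g A σ`: the element `g` acts on `N = π(SL(2,F))` as `x ↦ A σ(x) A⁻¹`.
-/

set_option autoImplicit false

namespace Cfsg.Agent.H550.Part

open Subgroup Matrix Cfsg.Agent.Lib.SL2Mat

universe u

variable {F : Type*} [Field F] {G : Type u} [Group G] {N : Subgroup G}

/-- `g` acts as `x ↦ A σ(x) A⁻¹` -/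
def Act (π : SpecialLinearGroup (Fin 2) F →* N) (g : G) (A : GL (Fin 2) F) (σ : F ≃+* F) : Prop :=
  ∀ x, g * (π x : G) * g⁻¹ = (π (conjGL A (fieldAut σ x)) : G)

variable {π : SpecialLinearGroup (Fin 2) F →* N}

/-- the action of a field automorphism on `GL(2,F)` -/
noncomputable def glMap (σ : F ≃+* F) : GL (Fin 2) F →* GL (Fin 2) F :=
  Matrix.GeneralLinearGroup.map σ.toRingHom

theorem glMap_val (σ : F ≃+* F) (A : GL (Fin 2) F) (i j : Fin 2) :
    (glMap σ A).1 i j = σ (A.1 i j) := rfl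

theorem fieldAut_conjGL (σ : F ≃+* F) (B : GL (Fin 2) F) (x : SpecialLinearGroup (Fin 2) F) :
    fieldAut σ (conjGL B x) = conjGL (glMap σ B) (fieldAut σ x) := by
  apply Subtype.ext
  rw [conjGL_val]
  change (B.1 * x.1 * B⁻¹.1).map σ.toRingHom = (glMap σ B).1 * x.1.map σ.toRingHom * (glMap σ B)⁻¹.1
  rw [Matrix.map_mul, Matrix.map_mul, ← map_inv]
  rfl

theorem det_glMap (σ : F ≃+* F) (B : GL (Fin 2) F) : (glMap σ B).1.det = σ B.1.det := by
  rw [Matrix.det_fin_two, Matrix.det_fin_two, map_sub, map_mul, map_mul]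
  rfl

theorem det_ne_zero (A : GL (Fin 2) F) : A.1.det ≠ 0 := by
  have h : A.1.det * A⁻¹.1.det = 1 := by
    rw [← Matrix.det_mul, ← Units.val_mul, mul_inv_cancel, Units.val_one, Matrix.det_one]
  intro h0
  rw [h0, zero_mul] at h
  exact zero_ne_one h

theorem Act.mul {g h : G} {A B : GL (Fin 2) F} {σ τ : F ≃+* F} (hg : Act π g A σ)
    (hh : Act π h B τ) : Act π (g * h) (A * glMap σ B) (σ * τ) := by
  intro x
  have h1 : g * h * (π x : G) * (g * h)⁻¹ = g * (h * (π x : G) * h⁻¹) * g⁻¹ := by group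
  rw [h1, hh, hg, fieldAut_conjGL, map_mul conjGL, MulAut.mul_apply, map_mul fieldAut,
    MulAut.mul_apply]

theorem Act.coe (y : SpecialLinearGroup (Fin 2) F) :
    Act π (π y : G) (SpecialLinearGroup.toGL y) 1 := by
  intro x
  rw [conjGL_toGL, map_one fieldAut]
  change (π y : G) * (π x : G) * (π y : G)⁻¹ = ((π (y * x * y⁻¹) : N) : G)
  rw [map_mul, map_mul, map_inv]
  rfl

theorem Act.one : Act π (1 : G) 1 1 := by
  have := Act.coe (π := π) 1
  rwa [map_one, map_one] at this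

/-- every matrix of square determinant acts like a matrix of determinant one -/
theorem exists_sl_of_isSquare {A : GL (Fin 2) F} (h : IsSquare A.1.det) :
    ∃ y : SpecialLinearGroup (Fin 2) F, ∃ c : F, c ≠ 0 ∧ A.1 = c • y.1 := by
  obtain ⟨c, hc⟩ := h
  have hc0 : c ≠ 0 := by
    rintro rfl
    rw [mul_zero] at hc
    exact det_ne_zero A hc
  refine ⟨⟨c⁻¹ • A.1, ?_⟩, c, hc0, ?_⟩
  · rw [Matrix.det_smul, hc]
    simp only [Fintype.card_fin]
    field_simp
  · change A.1 = c • (c⁻¹ • A.1)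
    rw [smul_smul, mul_inv_cancel₀ hc0, one_smul]

theorem conjGL_smul {A : GL (Fin 2) F} {y : SpecialLinearGroup (Fin 2) F} {c : F} (hc : c ≠ 0)
    (h : A.1 = c • y.1) (x : SpecialLinearGroup (Fin 2) F) : conjGL A x = y * x * y⁻¹ := by
  have h1 : conjGL A x * y = y * x := by
    apply Subtype.ext
    change (conjGL A x).1 * y.1 = y.1 * x.1
    have h2 : y.1 = c⁻¹ • A.1 := by
      rw [h, smul_smul, inv_mul_cancel₀ hc, one_smul]
    rw [h2, conjGL_val, mul_smul_comm, smul_mul_assoc, mul_assoc, inv_val_mul_val, mul_one]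
  rw [← h1, mul_inv_cancel_right]

theorem conjGL_comm (A : GL (Fin 2) F) (x : SpecialLinearGroup (Fin 2) F) :
    (conjGL A x).1 * A.1 = A.1 * x.1 := by
  rw [conjGL_val, mul_assoc, inv_val_mul_val, mul_one]

/-- **uniqueness** -/
theorem unique_act (h2 : (2 : F) ≠ 0) (hk : ∀ x, π x = 1 ↔ x = 1 ∨ x = -1) {A : GL (Fin 2) F}
    {σ : F ≃+* F} (h : ∀ x, π (conjGL A (fieldAut σ x)) = π x) :
    σ = 1 ∧ A.1 0 1 = 0 ∧ A.1 1 0 = 0 ∧ A.1 0 0 = A.1 1 1 := by
  have hdet := det_ne_zero A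
  rw [Matrix.det_fin_two] at hdet
  -- upper matrices
  have hup : ∀ b : F, A.1 1 0 * b = 0 ∧ A.1 0 0 * σ b = b * A.1 1 1 := by
    intro b
    have h1 := (Cfsg.Agent.Lib.PSL2Torus.map_eq_iff π hk).1 (h (up b))
    have h3 := conjGL_comm A (fieldAut σ (up b))
    rw [fieldAut_up] at h1 h3
    rcases h1 with h1 | h1
    · rw [h1] at h3
      have e00 := congrFun (congrFun h3 0) 0
      have e01 := congrFun (congrFun h3 0) 1
      simp only [Matrix.mul_apply, Fin.sum_univ_two] at e00 e01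
      change ent (up b) 0 0 * A.1 0 0 + ent (up b) 0 1 * A.1 1 0 =
        A.1 0 0 * ent (up (σ b)) 0 0 + A.1 0 1 * ent (up (σ b)) 1 0 at e00
      change ent (up b) 0 0 * A.1 0 1 + ent (up b) 0 1 * A.1 1 1 =
        A.1 0 0 * ent (up (σ b)) 0 1 + A.1 0 1 * ent (up (σ b)) 1 1 at e01
      simp only [up_00, up_01, up_10, up_11] at e00 e01
      constructor
      · linear_combination e00
      · linear_combination -e01
    · exfalso
      rw [h1] at h3
      have e00 := congrFun (congrFun h3 0) 0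
      have e10 := congrFun (congrFun h3 1) 0
      simp only [Matrix.mul_apply, Fin.sum_univ_two] at e00 e10
      change -ent (up b) 0 0 * A.1 0 0 + -ent (up b) 0 1 * A.1 1 0 =
        A.1 0 0 * ent (up (σ b)) 0 0 + A.1 0 1 * ent (up (σ b)) 1 0 at e00
      change -ent (up b) 1 0 * A.1 0 0 + -ent (up b) 1 1 * A.1 1 0 =
        A.1 1 0 * ent (up (σ b)) 0 0 + A.1 1 1 * ent (up (σ b)) 1 0 at e10
      simp only [up_00, up_01, up_10, up_11] at e00 e10
      have h4 : A.1 1 0 = 0 := by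
        have h5 : (2 : F) * A.1 1 0 = 0 := by linear_combination -e10
        exact (mul_eq_zero.1 h5).resolve_left h2
      rw [h4] at e00
      have h5 : A.1 0 0 = 0 := by
        have h6 : (2 : F) * A.1 0 0 = 0 := by linear_combination -e00
        exact (mul_eq_zero.1 h6).resolve_left h2
      apply hdet
      rw [h4, h5]
      ring
  -- the lower matrix
  have hlo : A.1 0 1 = 0 := by
    have h1 := (Cfsg.Agent.Lib.PSL2Torus.map_eq_iff π hk).1 (h (lo 1))
    have h3 := conjGL_comm A (fieldAut σ (lo 1))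
    rw [fieldAut_lo, map_one] at h1 h3
    rcases h1 with h1 | h1
    · rw [h1] at h3
      have e00 := congrFun (congrFun h3 0) 0
      simp only [Matrix.mul_apply, Fin.sum_univ_two] at e00
      change ent (lo 1) 0 0 * A.1 0 0 + ent (lo 1) 0 1 * A.1 1 0 =
        A.1 0 0 * ent (lo (1 : F)) 0 0 + A.1 0 1 * ent (lo (1 : F)) 1 0 at e00
      simp only [lo_00, lo_01, lo_10] at e00
      linear_combination -e00
    · rw [h1] at h3
      have e01 := congrFun (congrFun h3 0) 1
      simp only [Matrix.mul_apply, Fin.sum_univ_two] at e01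
      change -ent (lo 1) 0 0 * A.1 0 1 + -ent (lo 1) 0 1 * A.1 1 1 =
        A.1 0 0 * ent (lo (1 : F)) 0 1 + A.1 0 1 * ent (lo (1 : F)) 1 1 at e01
      simp only [lo_00, lo_01, lo_11] at e01
      have h6 : (2 : F) * A.1 0 1 = 0 := by linear_combination -e01
      exact (mul_eq_zero.1 h6).resolve_left h2
  obtain ⟨h10, h11⟩ := hup 1
  rw [mul_one] at h10
  rw [map_one, mul_one, one_mul] at h11
  refine ⟨?_, hlo, h10, h11⟩
  ext b
  have h3 := (hup b).2
  have h4 : A.1 0 0 ≠ 0 := by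
    intro h0
    apply hdet
    rw [hlo, h0]
    ring
  rw [← h11, mul_comm] at h3
  exact mul_right_cancel₀ h4 h3

theorem exists_act [Finite F] [hN : N.Normal] (hπ : Function.Surjective π)
    (hk : ∀ x, π x = 1 ↔ x = 1 ∨ x = -1) (g : G) :
    ∃ (A : GL (Fin 2) F) (σ : F ≃+* F), Act π g A σ := by
  have hker : π.ker ≤ Subgroup.center (SpecialLinearGroup (Fin 2) F) := by
    intro x hx
    rcases (hk x).1 hx with rfl | rfl
    · exact one_mem _
    · rw [Subgroup.mem_center_iff]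
      intro y
      rw [mul_neg, neg_mul, mul_one, one_mul]
  obtain ⟨A, σ, h⟩ := Cfsg.Agent.Lib.AutSL2.exists_gl_ringEquiv π hπ hker (MulAut.conjNormal g)
  refine ⟨A, σ, fun x => ?_⟩
  rw [← h x, MulAut.conjNormal_apply]

theorem Act.pow {g : G} {A : GL (Fin 2) F} {σ : F ≃+* F} (hg : Act π g A σ) (n : ℕ) :
    ∃ B, Act π (g ^ n) B (σ ^ n) := by
  induction n with
  | zero => exact ⟨1, by rw [pow_zero, pow_zero]; exact Act.one⟩
  | succ n ih =>
    obtain ⟨B, hB⟩ := ih
    exact ⟨_, by rw [pow_succ, pow_succ]; exact hB.mul hg⟩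

/-- an element acting trivially is trivial -/
theorem Act.eq_one (hπ : Function.Surjective π) (hC : centralizer (N : Set G) = ⊥) {g : G}
    (hg : Act π g 1 1) : g = 1 := by
  have h1 : g ∈ centralizer (N : Set G) := by
    rw [mem_centralizer_iff]
    intro n hn
    obtain ⟨x, hx⟩ := hπ ⟨n, hn⟩
    have h3 := hg x
    rw [map_one conjGL, map_one fieldAut, MulAut.one_apply, MulAut.one_apply, hx] at h3
    have h4 : g * n * g⁻¹ = n := h3
    exact (mul_inv_eq_iff_eq_mul.1 h4).symm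
  rwa [hC, mem_bot] at h1

/-- square determinant: modify by an element of `N` -/
theorem Act.of_isSquare {g : G} {A : GL (Fin 2) F} {σ : F ≃+* F} (hg : Act π g A σ)
    (h : IsSquare A.1.det) : ∃ y, Act π ((π y : G)⁻¹ * g) 1 σ := by
  obtain ⟨y, c, hc, hy⟩ := exists_sl_of_isSquare h
  refine ⟨y, fun x => ?_⟩
  have h1 := hg x
  rw [conjGL_smul hc hy] at h1
  have h3 : (π y : G)⁻¹ * g * (π x : G) * ((π y : G)⁻¹ * g)⁻¹ =
      (π y : G)⁻¹ * (g * (π x : G) * g⁻¹) * (π y : G) := by group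
  rw [h3, h1, map_mul, map_mul, map_inv, map_one conjGL, MulAut.one_apply]
  change (π y : G)⁻¹ * ((π y : G) * (π (fieldAut σ x) : G) * (π y : G)⁻¹) * (π y : G) = _
  group

theorem Act.mem (hπ : Function.Surjective π) (hC : centralizer (N : Set G) = ⊥) {g : G}
    {A : GL (Fin 2) F} (hg : Act π g A 1) (h : IsSquare A.1.det) : ∃ y, g = (π y : G) := by
  obtain ⟨y, hy⟩ := hg.of_isSquare h
  exact ⟨y, (inv_mul_eq_one.1 (hy.eq_one hπ hC)).symm⟩

end Cfsg.Agent.H550.Part
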