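import Mathlib
import Cfsg.Agent.H550.Part.Semi
import Cfsg.Agent.H550.Part.Struct
import Cfsg.Agent.Lib.NilpotentCoprime

/-!
# No field automorphisms
-/

set_option autoImplicit false

namespace Cfsg.Agent.H550.Part

open Subgroup Matrix Cfsg.Agent.Lib.SL2Mat

universe u

variable {F : Type*} [Field F] {G : Type u} [Group G] {S : Set (Subgroup G)} {N : Subgroup G}
  {π : SpecialLinearGroup (Fin 2) F →* N}

/-- the traceless matrix with rows `a b` and `b -a` -/
def vm (a b : F) (h : a ^ 2 + b ^ 2 = -1) : SpecialLinearGroup (Fin 2) F :=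
  mk a b b (-a) (by linear_combination -h)

theorem vm_sq (a b : F) (h : a ^ 2 + b ^ 2 = -1) : vm a b h * vm a b h = -1 :=
  Cfsg.Agent.Lib.PSL2Torus.sq_of_tr rfl

theorem jm_sq : Cfsg.Agent.Lib.PSL2Torus.jm F * Cfsg.Agent.Lib.PSL2Torus.jm F = -1 :=
  Cfsg.Agent.Lib.PSL2Torus.sq_of_tr (by simp)

theorem jm_vm (a b : F) (h : a ^ 2 + b ^ 2 = -1) :
    Cfsg.Agent.Lib.PSL2Torus.jm F * vm a b h = -(vm a b h * Cfsg.Agent.Lib.PSL2Torus.jm F) := by
  have hneg : ∀ (x : Matrix.SpecialLinearGroup (Fin 2) F) i j, ent (-x) i j = - ent x i j :=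
    fun _ _ _ => rfl
  refine ext_ent ?_ ?_ ?_ ?_ <;> rw [hneg, ent_mul, ent_mul] <;> simp [vm]

theorem neg_one_ne_one (h2 : (2 : F) ≠ 0) : (-1 : SpecialLinearGroup (Fin 2) F) ≠ 1 := by
  intro h
  have h1 := congrArg (fun x => ent x 0 0) h
  have h3 : -(1 : F) = 1 := h1
  apply h2
  linear_combination -h3

/-- every involution of `N` commutes with another one -/
theorem exists_commuting [Finite F] (h2 : (2 : F) ≠ 0) (hπ : Function.Surjective π)
    (hk : ∀ x, π x = 1 ↔ x = 1 ∨ x = -1) {a b : F} (hab : a ^ 2 + b ^ 2 = -1) :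
    π (Cfsg.Agent.Lib.PSL2Torus.jm F) ≠ 1 ∧
    π (Cfsg.Agent.Lib.PSL2Torus.jm F) * π (Cfsg.Agent.Lib.PSL2Torus.jm F) = 1 ∧
    π (vm a b hab) ≠ 1 ∧ π (vm a b hab) * π (vm a b hab) = 1 ∧
    π (Cfsg.Agent.Lib.PSL2Torus.jm F) * π (vm a b hab) =
      π (vm a b hab) * π (Cfsg.Agent.Lib.PSL2Torus.jm F) ∧
    π (Cfsg.Agent.Lib.PSL2Torus.jm F) ≠ π (vm a b hab) := by
  have hneg : ∀ (x : Matrix.SpecialLinearGroup (Fin 2) F) i j, ent (-x) i j = - ent x i j :=
    fun _ _ _ => rfl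
  have hne : ∀ x : SpecialLinearGroup (Fin 2) F, x * x = -1 → π x ≠ 1 ∧ π x * π x = 1 := by
    intro x hx
    constructor
    · intro h
      rcases (hk x).1 h with rfl | rfl
      · rw [one_mul] at hx
        exact neg_one_ne_one h2 hx.symm
      · rw [neg_mul_neg, one_mul] at hx
        exact neg_one_ne_one h2 hx.symm
    · rw [← map_mul, hx]
      exact (hk _).2 (Or.inr rfl)
  obtain ⟨h3, h4⟩ := hne _ (jm_sq (F := F))
  obtain ⟨h5, h6⟩ := hne _ (vm_sq a b hab)
  refine ⟨h3, h4, h5, h6, ?_, ?_⟩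
  · rw [← map_mul, ← map_mul]
    exact (Cfsg.Agent.Lib.PSL2Torus.map_eq_iff π hk).2 (Or.inr (jm_vm a b hab))
  · intro h
    rcases (Cfsg.Agent.Lib.PSL2Torus.map_eq_iff π hk).1 h with h7 | h7
    · have e1 := congrArg (fun x => ent x 0 1) h7
      have e2 := congrArg (fun x => ent x 1 0) h7
      have e3 : (-1 : F) = b := e1
      have e4 : (1 : F) = b := e2
      apply h2
      linear_combination e4 - e3
    · have e1 := congrArg (fun x => ent x 0 1) h7
      have e2 := congrArg (fun x => ent x 1 0) h7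
      have e3 : (-1 : F) = -b := e1
      have e4 : (1 : F) = -b := e2
      apply h2
      linear_combination e4 - e3

theorem exists_commuting' [Finite F] (h2 : (2 : F) ≠ 0) (hπ : Function.Surjective π)
    (hk : ∀ x, π x = 1 ↔ x = 1 ∨ x = -1) {i : N} (hi1 : i ≠ 1) (hi : i * i = 1) :
    ∃ t : N, t ≠ 1 ∧ t * t = 1 ∧ t ≠ i ∧ t * i = i * t := by
  obtain ⟨a, b, hab⟩ := Cfsg.Agent.Lib.PSL2Torus.exists_sum_sq h2 (-1 : F)
  obtain ⟨h3, h4, h5, h6, h7, h8⟩ := exists_commuting h2 hπ hk hab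
  obtain ⟨g, hg⟩ := Cfsg.Agent.Lib.PSL2Torus.conj_inv_hom π h2 hπ hk h3 h4 hi1 hi
  refine ⟨g * π (vm a b hab) * g⁻¹, fun h => h5 (conj_eq_one_iff.1 h), ?_, ?_, ?_⟩
  · calc g * π (vm a b hab) * g⁻¹ * (g * π (vm a b hab) * g⁻¹)
        = g * (π (vm a b hab) * π (vm a b hab)) * g⁻¹ := by group
      _ = 1 := by rw [h6]; group
  · intro h
    rw [← hg] at h
    exact h8 (mul_left_cancel (mul_right_cancel h)).symm
  · rw [← hg]
    calc g * π (vm a b hab) * g⁻¹ * (g * π (Cfsg.Agent.Lib.PSL2Torus.jm F) * g⁻¹)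
        = g * (π (vm a b hab) * π (Cfsg.Agent.Lib.PSL2Torus.jm F)) * g⁻¹ := by group
      _ = g * (π (Cfsg.Agent.Lib.PSL2Torus.jm F) * π (vm a b hab)) * g⁻¹ := by rw [h7]
      _ = g * π (Cfsg.Agent.Lib.PSL2Torus.jm F) * g⁻¹ * (g * π (vm a b hab) * g⁻¹) := by group

/-- the property (*) -/
def Star (S : Set (Subgroup G)) (N : Subgroup G) : Prop :=
  ∀ Y ∈ S, ∀ s t : N, (s : G) ∈ Y → (t : G) ∈ Y → s ≠ 1 → t ≠ 1 → s * s = 1 → t * t = 1 →
    s * t = t * s → s = t

theorem Act.commute {g : G} {σ : F ≃+* F} (hg : Act π g 1 σ) {x : SpecialLinearGroup (Fin 2) F}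
    (hx : fieldAut σ x = x) : g * (π x : G) = (π x : G) * g := by
  have h1 := hg x
  rw [map_one conjGL, MulAut.one_apply, hx] at h1
  exact mul_inv_eq_iff_eq_mul.1 h1

theorem Act.ne_one (h2 : (2 : F) ≠ 0) (hk : ∀ x, π x = 1 ↔ x = 1 ∨ x = -1) {g : G}
    {A : GL (Fin 2) F} {σ : F ≃+* F} (hg : Act π g A σ) (hσ : σ ≠ 1) : g ≠ 1 := by
  rintro rfl
  apply hσ
  refine (unique_act h2 hk (A := A) (fun x => ?_)).1
  apply Subtype.ext
  rw [← hg x]
  group

/-- automorphisms of odd prime order -/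
theorem not_odd [Finite G] [Finite F] (hS : IsPart S) [hN : N.Normal]
    (hC : centralizer (N : Set G) = ⊥) (h2 : (2 : F) ≠ 0) (hπ : Function.Surjective π)
    (hk : ∀ x, π x = 1 ↔ x = 1 ∨ x = -1) (hstar : Star S N) {g : G} {A : GL (Fin 2) F}
    {σ : F ≃+* F} (hg : Act π g A σ) {r : ℕ} (hr : r.Prime) (hr2 : r ≠ 2)
    (hσr : orderOf σ = r) : False := by
  have hrodd : Odd r := hr.odd_of_ne_two hr2
  -- square
  have hgg := hg.mul hg
  have hsq : IsSquare (A * glMap σ A).1.det := by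
    rw [Units.val_mul, Matrix.det_mul, det_glMap]
    exact isSquare_mul_map σ _
  obtain ⟨y, hy⟩ := hgg.of_isSquare hsq
  set γ : G := (π y : G)⁻¹ * (g * g) with hγ
  have hσσ : σ * σ ≠ 1 := by
    intro h
    have h1 : orderOf σ ∣ 2 := orderOf_dvd_of_pow_eq_one (by rw [pow_two]; exact h)
    rw [hσr] at h1
    exact hr2 ((Nat.prime_dvd_prime_iff_eq hr Nat.prime_two).1 h1)
  have hγ1 : γ ≠ 1 := hy.ne_one h2 hk hσσ
  have hpow : ∀ n : ℕ, Act π (γ ^ n) 1 ((σ * σ) ^ n) := by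
    intro n
    induction n with
    | zero => rw [pow_zero, pow_zero]; exact Act.one
    | succ n ih =>
      have h1 := ih.mul hy
      rw [map_one, one_mul] at h1
      rw [pow_succ, pow_succ]
      exact h1
  have hγr : γ ^ r = 1 := by
    have h1 := hpow r
    have h3 : (σ * σ) ^ r = 1 := by
      rw [← pow_two, ← pow_mul, mul_comm, pow_mul, ← hσr, pow_orderOf_eq_one, one_pow]
    rw [h3] at h1
    exact h1.eq_one hπ hC
  have hrf : Fact r.Prime := ⟨hr⟩
  have hγo : orderOf γ = r := orderOf_eq_prime hγr hγ1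
  obtain ⟨Y, hY, hγY⟩ := hS.cover γ hγ1
  -- the four-group over the prime field
  obtain ⟨p, hpc⟩ := CharP.exists F
  have hpp : p.Prime := CharP.char_is_prime F p
  have hpf : Fact p.Prime := ⟨hpp⟩
  obtain ⟨a0, b0, hab0⟩ := ZMod.sq_add_sq p (-1)
  set a : F := ZMod.castHom (dvd_refl p) F a0 with ha
  set b : F := ZMod.castHom (dvd_refl p) F b0 with hb
  have hab : a ^ 2 + b ^ 2 = -1 := by
    rw [ha, hb, ← map_pow, ← map_pow, ← map_add, hab0, map_neg, map_one]
  have hfix : ∀ (τ : F ≃+* F) (c : ZMod p), τ (ZMod.castHom (dvd_refl p) F c) =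
      ZMod.castHom (dvd_refl p) F c := by
    intro τ c
    obtain ⟨n, rfl⟩ := ZMod.natCast_zmod_surjective c
    rw [map_natCast, map_natCast]
  obtain ⟨h3, h4, h5, h6, h7, h8⟩ := exists_commuting (π := π) h2 hπ hk hab
  have hj : fieldAut (σ * σ) (Cfsg.Agent.Lib.PSL2Torus.jm F) = Cfsg.Agent.Lib.PSL2Torus.jm F := by
    refine ext_ent ?_ ?_ ?_ ?_ <;> rw [fieldAut_ent] <;> simp
  have hv : fieldAut (σ * σ) (vm a b hab) = vm a b hab := by
    refine ext_ent ?_ ?_ ?_ ?_ <;> rw [fieldAut_ent]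
    · exact hfix _ a0
    · exact hfix _ b0
    · exact hfix _ b0
    · change (σ * σ) (-a) = -a
      rw [map_neg, hfix (σ * σ) a0]
  have hjY : (π (Cfsg.Agent.Lib.PSL2Torus.jm F) : G) ∈ Y := by
    apply hS.mem_of_commute hY hγY hγ1 (hy.commute hj)
    rw [orderOf_coe, hγo, orderOf_eq_prime (by rw [pow_two]; exact h4) h3]
    exact Ne.symm hr2
  have hvY : (π (vm a b hab) : G) ∈ Y := by
    apply hS.mem_of_commute hY hγY hγ1 (hy.commute hv)
    rw [orderOf_coe, hγo, orderOf_eq_prime (by rw [pow_two]; exact h6) h5]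
    exact Ne.symm hr2
  exact h8 (hstar Y hY _ _ hjY hvY h3 h5 h4 h6 h7)

/-- field automorphisms of order two with square determinant -/
theorem not_two_square [Finite G] [Finite F] (hS : IsPart S)
    (hnil : ∀ X ∈ S, Group.IsNilpotent X) [hN : N.Normal]
    (hC : centralizer (N : Set G) = ⊥) (h2 : (2 : F) ≠ 0) (hπ : Function.Surjective π)
    (hk : ∀ x, π x = 1 ↔ x = 1 ∨ x = -1) {g : G} {A : GL (Fin 2) F}
    {σ : F ≃+* F} (hg : Act π g A σ) (hσ : orderOf σ = 2) (hsq : IsSquare A.1.det) : False := by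
  obtain ⟨y, hy⟩ := hg.of_isSquare hsq
  set γ : G := (π y : G)⁻¹ * g with hγ
  have hσ1 : σ ≠ 1 := by
    rintro rfl
    rw [orderOf_one] at hσ
    omega
  have hσσ : σ * σ = 1 := by
    rw [← pow_two, ← hσ]
    exact pow_orderOf_eq_one σ
  have hγ1 : γ ≠ 1 := hy.ne_one h2 hk hσ1
  have hγγ : γ * γ = 1 := by
    have h1 := hy.mul hy
    rw [map_one, one_mul, hσσ] at h1
    exact h1.eq_one hπ hC
  have hγo : orderOf γ = 2 := orderOf_eq_prime (by rw [pow_two]; exact hγγ) hγ1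
  obtain ⟨Y, hY, hγY⟩ := hS.cover γ hγ1
  obtain ⟨p, hpc⟩ := CharP.exists F
  have hpp : p.Prime := CharP.char_is_prime F p
  have hpf : Fact p.Prime := ⟨hpp⟩
  have hp2 : p ≠ 2 := by
    rintro rfl
    exact h2 (by exact_mod_cast CharP.cast_eq_zero F 2)
  have hpodd : Odd p := hpp.odd_of_ne_two hp2
  have hup1 : π (up (1 : F)) ≠ 1 := by
    intro h
    rcases (hk _).1 h with h | h
    · have := congrArg (fun x => ent x 0 1) h
      simp at this
    · have h3 := congrArg (fun x => ent x 0 1) h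
      have h4 : (1 : F) = -0 := h3
      rw [neg_zero] at h4
      exact one_ne_zero h4
  have hlo1 : π (lo (1 : F)) ≠ 1 := by
    intro h
    rcases (hk _).1 h with h | h
    · have := congrArg (fun x => ent x 1 0) h
      simp at this
    · have h3 := congrArg (fun x => ent x 1 0) h
      have h4 : (1 : F) = -0 := h3
      rw [neg_zero] at h4
      exact one_ne_zero h4
  have hupp : π (up (1 : F)) ^ p = 1 := by
    rw [← map_pow, Cfsg.Agent.Lib.AutSL2.up_pow, CharP.cast_eq_zero, zero_mul, up_zero, map_one]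
  have hlop : π (lo (1 : F)) ^ p = 1 := by
    have h3 : ∀ n : ℕ, lo (1 : F) ^ n = lo (n : F) := by
      intro n
      induction n with
      | zero => rw [pow_zero, Nat.cast_zero, lo_zero]
      | succ n ih => rw [pow_succ, ih, lo_mul, Nat.cast_succ]
    rw [← map_pow, h3, CharP.cast_eq_zero, lo_zero, map_one]
  have hupY : (π (up (1 : F)) : G) ∈ Y := by
    apply hS.mem_of_commute hY hγY hγ1 (hy.commute (by rw [fieldAut_up, map_one]))
    rw [orderOf_coe, hγo, orderOf_eq_prime hupp hup1]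
    exact hp2
  have hloY : (π (lo (1 : F)) : G) ∈ Y := by
    apply hS.mem_of_commute hY hγY hγ1 (hy.commute (by rw [fieldAut_lo, map_one]))
    rw [orderOf_coe, hγo, orderOf_eq_prime hlop hlo1]
    exact hp2
  -- the involution
  set I : SpecialLinearGroup (Fin 2) F := up 1 * (lo 1)⁻¹ * (lo 1)⁻¹ with hI
  have hIval : I = mk (-1) 1 (-2) 1 (by ring) := by
    rw [hI, lo_inv]
    refine ext_ent ?_ ?_ ?_ ?_ <;> simp [ent_mul]
    · ring
  have hIY : (π I : G) ∈ Y := by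
    rw [hI, map_mul, map_mul, map_inv]
    exact mul_mem (mul_mem hupY (inv_mem hloY)) (inv_mem hloY)
  have hII : I * I = -1 := by
    apply Cfsg.Agent.Lib.PSL2Torus.sq_of_tr
    rw [hIval]
    simp
  have hIσ : π I ^ 2 = 1 := by
    rw [pow_two, ← map_mul, hII]
    exact (hk _).2 (Or.inr rfl)
  have := hnil Y hY
  have hIG : (π I : G) ^ 2 = 1 := by rw [← Subgroup.coe_pow, hIσ]; rfl
  have hupG : (π (up (1 : F)) : G) ^ p = 1 := by rw [← Subgroup.coe_pow, hupp]; rfl
  have hcomm := Cfsg.Agent.Lib.NilpotentCoprime.commute_of_pow_eq_one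
    (a := (⟨(π I : G), hIY⟩ : Y)) (b := ⟨(π (up (1 : F)) : G), hupY⟩)
    (show Nat.Coprime 2 p from (Nat.coprime_two_left).2 hpodd)
    (Subtype.ext hIG) (Subtype.ext hupG)
  have hcomm2 : (π I : G) * (π (up (1 : F)) : G) = (π (up (1 : F)) : G) * (π I : G) :=
    congrArg Subtype.val hcomm.eq
  have hcomm' : π (I * up (1 : F)) = π (up (1 : F) * I) := by
    rw [map_mul π I, map_mul π (up 1) I]
    exact Subtype.ext hcomm2
  rcases (Cfsg.Agent.Lib.PSL2Torus.map_eq_iff π hk).1 hcomm' with h | h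
  · rw [hIval] at h
    have h3 := congrArg (fun x => ent x 0 0) h
    simp [ent_mul] at h3
    apply h2
    linear_combination h3
  · rw [hIval] at h
    have h3 := congrArg (fun x => ent x 1 1) h
    have hneg : ∀ (x : Matrix.SpecialLinearGroup (Fin 2) F) i j, ent (-x) i j = - ent x i j :=
      fun _ _ _ => rfl
    have h4 := congrArg (fun x => ent x 0 1) h
    simp only [hneg, ent_mul, mk_00, mk_01, mk_10, mk_11, up_00, up_01, up_10, up_11] at h3 h4
    apply h2
    linear_combination h4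

end Cfsg.Agent.H550.Part
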