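import Mathlib
import Cfsg.Agent.H550.Part.OddField

/-!
# No field automorphisms, II, and the identification with `PSL(2,F)` or `PGL(2,F)`
-/

set_option autoImplicit false

namespace Cfsg.Agent.H550.Part

open Subgroup Matrix Cfsg.Agent.Lib.SL2Mat

universe u

variable {F : Type*} [Field F] {G : Type u} [Group G] {S : Set (Subgroup G)} {N : Subgroup G}
  {π : SpecialLinearGroup (Fin 2) F →* N}

/-- an element inducing `A σ` with `σ` of order two and `det A` a nonsquare is not an involution -/
theorem not_invol [Finite F] (h2 : (2 : F) ≠ 0)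
    (hk : ∀ x, π x = 1 ↔ x = 1 ∨ x = -1) {h : G} {B : GL (Fin 2) F}
    {σ : F ≃+* F} (hh : Act π h B σ) (hσ1 : σ ≠ 1) (hσσ : σ * σ = 1)
    (hsq : ¬ IsSquare B.1.det) : h * h ≠ 1 := by
  intro hhh
  have h1 := hh.mul hh
  rw [hhh, hσσ] at h1
  have huniq := unique_act h2 hk (A := B * glMap σ B) (σ := 1) (fun x => by
    apply Subtype.ext
    rw [← h1 x]
    group)
  obtain ⟨-, h01, h10, h00⟩ := huniq
  have hσe : ∀ a, σ (σ a) = a := fun a => DFunLike.congr_fun hσσ a
  set l : F := (B * glMap σ B).1 0 0 with hl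
  -- `B σ(B) = l`
  have hBB : B.1 * (glMap σ B).1 = l • (1 : Matrix (Fin 2) (Fin 2) F) := by
    ext i j
    fin_cases i <;> fin_cases j
    · simp [hl]
    · simpa using h01
    · simpa using h10
    · simpa using h00.symm
  have hBB' : (glMap σ B).1 * B.1 = σ l • (1 : Matrix (Fin 2) (Fin 2) F) := by
    have h3 := congrArg (fun M : Matrix (Fin 2) (Fin 2) F => M.map σ) hBB
    have h4 : (B.1 * (glMap σ B).1).map σ = (glMap σ B).1 * B.1 := by
      rw [Matrix.map_mul]
      congr 1
      ext i j
      rw [Matrix.map_apply, glMap_val, hσe]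
    have h5 : (l • (1 : Matrix (Fin 2) (Fin 2) F)).map σ = σ l • (1 : Matrix (Fin 2) (Fin 2) F) := by
      ext i j
      rw [Matrix.map_apply, Matrix.smul_apply, Matrix.smul_apply, smul_eq_mul, smul_eq_mul, map_mul]
      congr 1
      rw [Matrix.one_apply]
      split_ifs <;> simp
    rw [← h4, ← h5]
    exact h3
  have hσl : σ l = l := by
    have h3 : B.1 * ((glMap σ B).1 * B.1) = (B.1 * (glMap σ B).1) * B.1 := by rw [mul_assoc]
    rw [hBB, hBB', mul_smul_comm, mul_one, smul_mul_assoc, one_mul] at h3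
    by_contra hne
    have h4 : (σ l - l) • B.1 = 0 := by rw [sub_smul, h3, sub_self]
    rcases smul_eq_zero.1 h4 with h5 | h5
    · exact hne (sub_eq_zero.1 h5)
    · apply det_ne_zero B
      rw [h5, Matrix.det_zero]
  have hdet : B.1.det * σ B.1.det = l * l := by
    rw [← det_glMap, ← Matrix.det_mul, hBB, Matrix.det_smul, Matrix.det_one]
    simp [pow_two]
  exact hsq (isSquare_of_norm h2 hσ1 hσσ (det_ne_zero B) hσl hdet)

theorem not_isSquare_mul_of {K : Type*} [Field K] {a b : K} (ha : ¬ IsSquare a) (hb : IsSquare b)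
    (hb0 : b ≠ 0) : ¬ IsSquare (a * b) := by
  intro h
  apply ha
  have h1 : a = a * b / b := by field_simp
  rw [h1]
  exact h.div hb

/-- field automorphisms of order two with nonsquare determinant -/
theorem not_two_nonsquare [Finite G] [Finite F] (hS : IsPart S) [hN : N.Normal]
    (hC : centralizer (N : Set G) = ⊥) (h2 : (2 : F) ≠ 0) (hπ : Function.Surjective π)
    (hk : ∀ x, π x = 1 ↔ x = 1 ∨ x = -1) (hstar : Star S N) {g : G} {A : GL (Fin 2) F}
    {σ : F ≃+* F} (hg : Act π g A σ) (hσ : orderOf σ = 2) (hsq : ¬ IsSquare A.1.det) : False := by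
  have hσ1 : σ ≠ 1 := by
    rintro rfl
    rw [orderOf_one] at hσ
    omega
  have hσσ : σ * σ = 1 := by
    rw [← pow_two, ← hσ]
    exact pow_orderOf_eq_one σ
  -- elements `g n` are not involutions
  have hgn : ∀ y : SpecialLinearGroup (Fin 2) F, (g * (π y : G)) * (g * (π y : G)) ≠ 1 := by
    intro y
    have h1 := hg.mul (Act.coe (π := π) y)
    rw [mul_one] at h1
    refine not_invol h2 hk h1 hσ1 hσσ ?_
    rw [Units.val_mul, Matrix.det_mul, det_glMap]
    apply not_isSquare_mul_of hsq
    · have h3 : (SpecialLinearGroup.toGL y).1.det = 1 := y.2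
      rw [h3, map_one]
      exact ⟨1, (mul_one 1).symm⟩
    · have h3 : (SpecialLinearGroup.toGL y).1.det = 1 := y.2
      rw [h3, map_one]
      exact one_ne_zero
  -- `g² ∈ N`
  obtain ⟨y, hy⟩ : ∃ y, g * g = (π y : G) := by
    have h1 := hg.mul hg
    rw [hσσ] at h1
    refine h1.mem hπ hC ?_
    rw [Units.val_mul, Matrix.det_mul, det_glMap]
    exact isSquare_mul_map σ _
  -- `g` has even order
  have hev : 2 ∣ orderOf g := by
    by_contra hodd
    rw [← even_iff_two_dvd, Nat.not_even_iff_odd] at hodd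
    obtain ⟨m, hm⟩ := hodd
    have h1 : g = (g * g) ^ (m + 1) := by
      rw [← pow_two, ← pow_mul]
      have h3 : 2 * (m + 1) = orderOf g + 1 := by omega
      rw [h3, pow_succ, pow_orderOf_eq_one, one_mul]
    rw [hy, ← Subgroup.coe_pow, ← map_pow] at h1
    set w := y ^ (m + 1) with hw
    have h3 := Act.coe (π := π) w
    rw [← h1] at h3
    apply hσ1
    -- compare the two actions of `g`
    have h4 := Act.coe (π := π) w⁻¹
    have h5 := h4.mul hg
    have h6 : (π w⁻¹ : G) * g = 1 := by
      rw [map_inv]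
      conv_lhs => rw [h1]
      exact inv_mul_cancel _
    rw [h6, one_mul] at h5
    exact (unique_act h2 hk (fun x => by
      apply Subtype.ext
      rw [← h5 x]
      group)).1
  obtain ⟨k, hkk⟩ := hev
  have hk0 : k ≠ 0 := by
    rintro rfl
    have := orderOf_pos g
    omega
  set i : G := g ^ k with hi
  have hi1 : i ≠ 1 := by
    intro h
    have h1 := orderOf_dvd_of_pow_eq_one h
    have h3 := Nat.le_of_dvd (Nat.pos_of_ne_zero hk0) h1
    omega
  have hii : i * i = 1 := by
    rw [hi, ← pow_add]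
    have h3 : k + k = orderOf g := by omega
    rw [h3, pow_orderOf_eq_one]
  -- `i ∈ N`
  obtain ⟨w, hw⟩ : ∃ w, i = (π w : G) := by
    rcases Nat.even_or_odd k with he | ho
    · obtain ⟨m, hm⟩ := he
      refine ⟨y ^ m, ?_⟩
      rw [map_pow, Subgroup.coe_pow, ← hy, hi, hm, ← pow_two, ← pow_mul]
      congr 1
      omega
    · exfalso
      obtain ⟨m, hm⟩ := ho
      have h1 : i = g * (π (y ^ m) : G) := by
        rw [map_pow, Subgroup.coe_pow, ← hy, hi, hm, ← pow_two, ← pow_mul, ← pow_succ']
      exact hgn _ (by rw [← h1]; exact hii)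
  have hw1 : π w ≠ 1 := by
    intro h
    apply hi1
    rw [hw, h]
    rfl
  have hww : π w * π w = 1 := by
    apply Subtype.ext
    change (π w : G) * (π w : G) = 1
    rw [← hw]
    exact hii
  obtain ⟨t, ht1, htt, hti, htc⟩ := exists_commuting' h2 hπ hk hw1 hww
  obtain ⟨Y, hY, hiY⟩ := hS.cover i hi1
  have hgY : g ∈ Y := hS.mem_of_pow hY hiY hi1
  have htY : (t : G) ∉ Y := by
    intro h
    exact hti (hstar Y hY t (π w) h (by rw [← hw]; exact hiY) ht1 hw1 htt hww htc)
  obtain ⟨v, hv⟩ := hπ t
  have hgt : g * (t : G) ∉ Y := fun h => htY ((mul_mem_cancel_left hgY).1 h)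
  have hio : orderOf i = 2 := orderOf_eq_prime (by rw [pow_two]; exact hii) hi1
  have hcomm : g * (t : G) * i = i * (g * (t : G)) := by
    have h1 : (t : G) * i = i * t := by
      rw [hw]
      exact congrArg Subtype.val htc
    have h3 : g * i = i * g := by
      rw [hi]
      exact ((Commute.refl g).pow_right k).eq
    rw [mul_assoc, h1, ← mul_assoc, h3, mul_assoc]
  have h3 := hS.sq_of_commute hY hiY hio hgt hcomm
  rw [← hv] at h3
  exact hgn v h3

/-- **No field automorphisms.** -/
theorem no_field [Finite G] [Finite F] (hS : IsPart S)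
    (hnil : ∀ X ∈ S, Group.IsNilpotent X) [hN : N.Normal]
    (hC : centralizer (N : Set G) = ⊥) (h2 : (2 : F) ≠ 0) (hπ : Function.Surjective π)
    (hk : ∀ x, π x = 1 ↔ x = 1 ∨ x = -1) (hstar : (∀ σ : F ≃+* F, σ = 1) ∨ Star S N)
    {g : G} {A : GL (Fin 2) F} {σ : F ≃+* F} (hg : Act π g A σ) : σ = 1 := by
  rcases hstar with hstar | hstar
  · exact hstar σ
  by_contra hσ
  have hfinF : Finite (F ≃+* F) := Finite.of_injective (fun τ : F ≃+* F => (τ : F → F))
    DFunLike.coe_injective
  obtain ⟨r, hr, m, hm⟩ := Nat.exists_prime_and_dvd (mt orderOf_eq_one_iff.1 hσ)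
  have hm0 : m ≠ 0 := by
    rintro rfl
    have := orderOf_pos σ
    omega
  obtain ⟨B, hB⟩ := hg.pow m
  have hσm : orderOf (σ ^ m) = r := by
    rw [orderOf_pow_of_dvd hm0 ⟨r, by rw [hm, mul_comm]⟩, hm]
    exact Nat.mul_div_cancel _ (Nat.pos_of_ne_zero hm0)
  by_cases hr2 : r = 2
  · rw [hr2] at hσm
    by_cases hsq : IsSquare B.1.det
    · exact not_two_square hS hnil hC h2 hπ hk hB hσm hsq
    · exact not_two_nonsquare hS hC h2 hπ hk hstar hB hσm hsq
  · exact not_odd hS hC h2 hπ hk hstar hB hr hr2 hσm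

theorem mem_center_of_scalar {A : GL (Fin 2) F} (h01 : A.1 0 1 = 0) (h10 : A.1 1 0 = 0)
    (h00 : A.1 0 0 = A.1 1 1) : A ∈ Subgroup.center (GL (Fin 2) F) := by
  rw [Subgroup.mem_center_iff]
  intro B
  apply Units.ext
  ext i j
  rw [Units.val_mul, Units.val_mul, Matrix.mul_apply, Matrix.mul_apply, Fin.sum_univ_two,
    Fin.sum_univ_two]
  fin_cases i <;> fin_cases j <;> simp only [Fin.zero_eta, Fin.mk_one, Fin.isValue]
  · rw [h01, h10]; ring
  · rw [h01, ← h00]; ring
  · rw [h10, h00]; ring
  · rw [h01, h10]; ring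

/-- **Identification.** -/
theorem odd_main [Finite G] [Finite F] (hS : IsPart S)
    (hnil : ∀ X ∈ S, Group.IsNilpotent X) [hN : N.Normal]
    (hC : centralizer (N : Set G) = ⊥) (h2 : (2 : F) ≠ 0)
    (e : N ≃* Matrix.ProjectiveSpecialLinearGroup (Fin 2) F)
    (hstar : (∀ σ : F ≃+* F, σ = 1) ∨ Star S N) :
    Nonempty (G ≃* Matrix.ProjectiveSpecialLinearGroup (Fin 2) F) ∨
      Nonempty (G ≃* (GL (Fin 2) F ⧸ Subgroup.center (GL (Fin 2) F))) := by
  classical
  obtain ⟨π, hπ, hk⟩ := Cfsg.Agent.Lib.PSL2Torus.exists_hom h2 e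
  have hact : ∀ g : G, ∃ A : GL (Fin 2) F, Act π g A 1 := by
    intro g
    obtain ⟨A, σ, hA⟩ := exists_act hπ hk g
    have := no_field hS hnil hC h2 hπ hk hstar hA
    subst this
    exact ⟨A, hA⟩
  by_cases hall : ∀ (g : G) (A : GL (Fin 2) F), Act π g A 1 → IsSquare A.1.det
  · left
    have htop : N = ⊤ := by
      rw [eq_top_iff]
      intro g _
      obtain ⟨A, hA⟩ := hact g
      obtain ⟨y, hy⟩ := hA.mem hπ hC (hall g A hA)
      rw [hy]
      exact (π y).2
    exact ⟨(Subgroup.topEquiv.symm.trans (MulEquiv.subgroupCongr htop.symm)).trans e⟩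
  · right
    push Not at hall
    obtain ⟨g₀, A₀, hA₀, hsq₀⟩ := hall
    choose A hA using hact
    -- uniqueness of the matrix up to scalars
    have huniq : ∀ (g : G) (B C : GL (Fin 2) F), Act π g B 1 → Act π g C 1 →
        (B : GL (Fin 2) F ⧸ Subgroup.center (GL (Fin 2) F)) = C := by
      intro g B C hB hC'
      rw [QuotientGroup.eq]
      have h1 : ∀ x, π (conjGL (B⁻¹ * C) (fieldAut 1 x)) = π x := by
        intro x
        have h3 : ∀ x, π (conjGL B x) = π (conjGL C x) := by
          intro x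
          apply Subtype.ext
          have h4 := hB x
          have h5 := hC' x
          rw [map_one fieldAut, MulAut.one_apply] at h4 h5
          rw [← h4, ← h5]
        -- apply to `B⁻¹ x`
        have h6 := (Cfsg.Agent.Lib.PSL2Torus.map_eq_iff π hk).1 (h3 x)
        rw [map_one fieldAut, MulAut.one_apply, map_mul conjGL, MulAut.mul_apply]
        rw [Cfsg.Agent.Lib.PSL2Torus.map_eq_iff π hk]
        rcases h6 with h6 | h6
        · left
          rw [← h6, map_inv, MulAut.inv_apply_self]
        · right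
          have h7 : conjGL C x = -conjGL B x := by rw [h6, neg_neg]
          rw [h7]
          have h8 : ∀ (D : GL (Fin 2) F) (y : SpecialLinearGroup (Fin 2) F),
              conjGL D (-y) = -conjGL D y := by
            intro D y
            apply Subtype.ext
            change D.1 * (-y.1) * D⁻¹.1 = -(D.1 * y.1 * D⁻¹.1)
            rw [mul_neg, neg_mul]
          rw [h8, map_inv, MulAut.inv_apply_self]
      obtain ⟨-, h01, h10, h00⟩ := unique_act h2 hk h1
      exact mem_center_of_scalar h01 h10 h00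
    have hglone : ∀ B : GL (Fin 2) F, glMap 1 B = B := by
      intro B
      apply Units.ext
      ext i j
      rfl
    have hmul : ∀ (g h : G) (B C : GL (Fin 2) F), Act π g B 1 → Act π h C 1 →
        Act π (g * h) (B * C) 1 := by
      intro g h B C hB hC'
      have h1 := hB.mul hC'
      rwa [hglone, mul_one] at h1
    let Ψ : G →* (GL (Fin 2) F ⧸ Subgroup.center (GL (Fin 2) F)) :=
      MonoidHom.mk' (fun g => (A g : GL (Fin 2) F ⧸ Subgroup.center (GL (Fin 2) F)))
        (fun g h => by
          rw [← QuotientGroup.mk_mul]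
          exact huniq (g * h) _ _ (hA (g * h)) (hmul g h _ _ (hA g) (hA h)))
    have hΨ : ∀ (g : G) (B : GL (Fin 2) F), Act π g B 1 →
        Ψ g = (B : GL (Fin 2) F ⧸ Subgroup.center (GL (Fin 2) F)) := by
      intro g B hB
      exact huniq g _ _ (hA g) hB
    have hinj : Function.Injective Ψ := by
      rw [injective_iff_map_eq_one]
      intro g hg
      have h1 : A g ∈ Subgroup.center (GL (Fin 2) F) := (QuotientGroup.eq_one_iff _).1 hg
      have h3 : Act π g 1 1 := by
        intro x
        rw [hA g x]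
        congr 2
        rw [map_one conjGL, map_one fieldAut, MulAut.one_apply, MulAut.one_apply]
        apply Subtype.ext
        rw [conjGL_val]
        have h4 := Subgroup.mem_center_iff.1 h1 (SpecialLinearGroup.toGL x)
        have h5 : (A g).1 * x.1 = x.1 * (A g).1 := congrArg Units.val h4.symm
        have h6 : (A g).1 * (A g)⁻¹.1 = 1 := by
          rw [← Units.val_mul, mul_inv_cancel, Units.val_one]
        rw [h5, mul_assoc, h6, mul_one]
      exact h3.eq_one hπ hC
    have hsurj : Function.Surjective Ψ := by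
      intro q
      obtain ⟨B, rfl⟩ := QuotientGroup.mk_surjective q
      by_cases hB : IsSquare B.1.det
      · obtain ⟨y, c, hc, hy⟩ := exists_sl_of_isSquare hB
        refine ⟨(π y : G), hΨ _ _ (fun x => ?_)⟩
        rw [map_one fieldAut, MulAut.one_apply, conjGL_smul hc hy]
        rw [map_mul, map_mul, map_inv]
        rfl
      · have h1 : IsSquare (B * A₀⁻¹).1.det := by
          rw [Units.val_mul, Matrix.det_mul]
          apply Cfsg.Agent.LOC.NdField.isSquare_mul_of_not hB
          intro h
          apply hsq₀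
          have h3 : A₀.1.det * A₀⁻¹.1.det = 1 := by
            rw [← Matrix.det_mul, ← Units.val_mul, mul_inv_cancel, Units.val_one, Matrix.det_one]
          have h4 : A₀.1.det = 1 / A₀⁻¹.1.det := by
            rw [eq_div_iff (det_ne_zero _)]
            exact h3
          rw [h4]
          exact IsSquare.one.div h
        obtain ⟨y, c, hc, hy⟩ := exists_sl_of_isSquare h1
        have h3 : Act π (π y : G) (B * A₀⁻¹) 1 := by
          intro x
          rw [map_one fieldAut, MulAut.one_apply, conjGL_smul hc hy]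
          rw [map_mul, map_mul, map_inv]
          rfl
        refine ⟨(π y : G) * g₀, ?_⟩
        have h4 := hmul _ _ _ _ h3 hA₀
        rw [inv_mul_cancel_right] at h4
        exact hΨ _ _ h4
    exact ⟨MulEquiv.ofBijective Ψ ⟨hinj, hsurj⟩⟩

end Cfsg.Agent.H550.Part
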