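import Mathlib
import Cfsg.Prelude.Def_Sz
import Cfsg.Agent.H550.Part.Normalize
import Cfsg.Agent.H550.Part.Cases
import Cfsg.Agent.H550.Part.AltSeven
import Cfsg.Agent.H550.Part.OddField2

/-!
# Groups with a nontrivial partition: the classification, modulo quoted classification theorems
-/

set_option autoImplicit false

namespace Cfsg.Agent.H550.Part

open Subgroup Matrix Cfsg.Agent.LieExceptional.CCEven

universe u

/-- the quoted theorems -/
structure Quoted : Prop where
  odd : ∀ (K : Type u) [Group K] [Finite K], Odd (Nat.card K) → Group.IsSolvable K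
  strong : ∀ (K : Type u) [Group K] [Finite K] (H : Subgroup K), IsStronglyEmbedded H →
    (oddCore ↥H).map H.subtype ≤ oddCore K
  zass : ∀ (K Ω : Type u) [Group K] [Finite K] [MulAction K Ω] [Finite Ω],
    IsZassenhausGroup K Ω → ∀ [IsSimpleGroup K],
    (∃ (F : Type) (_ : Field F) (_ : Fintype F),
      Nonempty (K ≃* Matrix.ProjectiveSpecialLinearGroup (Fin 2) F)) ∨ Cfsg.IsSuzuki K
  dih : ∀ (X : Type u) [Group X] [Finite X] [Group.IsPerfect X] (S : Sylow 2 X) (n : ℕ), 2 ≤ n →
    Nonempty ((S : Subgroup X) ≃* DihedralGroup n) →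
    (∃ (F : Type) (_ : Field F) (_ : Fintype F), Odd (Fintype.card F) ∧ 3 < Fintype.card F ∧
        Nonempty (X ⧸ Cfsg.oddCore X ≃* Matrix.ProjectiveSpecialLinearGroup (Fin 2) F)) ∨
      Nonempty (X ⧸ Cfsg.oddCore X ≃* alternatingGroup (Fin 7))
  suz : ∀ (K : Type u) [Group K] [Finite K] [IsSimpleGroup K] (H : Subgroup K),
    ¬ Group.IsSolvable K → IsStronglyEmbedded H → ¬ 3 ∣ Nat.card K → Cfsg.Lie.IsoSuzuki K

variable {G : Type u} [Group G] {S : Set (Subgroup G)}

theorem isPerfect_of_simple [IsSimpleGroup G] (hns : ¬ Group.IsSolvable G) : Group.IsPerfect G := by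
  rw [Group.isPerfect_def]
  have hn : (commutator G).Normal := inferInstance
  rcases hn.eq_bot_or_eq_top with h | h
  · exfalso
    apply hns
    refine (Group.isSolvable_def G).2 ⟨1, ?_⟩
    rw [derivedSeries_one]
    exact h
  · exact h

theorem oddCore_eq_bot [Finite G] [IsSimpleGroup G] (heven : 2 ∣ Nat.card G) :
    oddCore G = ⊥ := by
  have hn : (oddCore G).Normal := inferInstance
  rcases hn.eq_bot_or_eq_top with h | h
  · exact h
  · exfalso
    have h1 := (Lib.Cores.le_pPrimeCore_iff (p := 2) (inferInstance : (⊤ : Subgroup G).Normal)).1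
      (le_of_eq h.symm)
    rw [Subgroup.card_top] at h1
    exact (Nat.Prime.coprime_iff_not_dvd Nat.prime_two).1 h1.symm heven

/-- groups with a dihedral Sylow 2-subgroup -/
theorem Quoted.dih_simple (Q : Quoted.{u}) [Finite G] [IsSimpleGroup G]
    (hns : ¬ Group.IsSolvable G) (heven : 2 ∣ Nat.card G) (hS : IsPart S)
    (hnil : ∀ X ∈ S, Group.IsNilpotent X) (T : Sylow 2 G) {n : ℕ} (hn : 2 ≤ n)
    (hT : Nonempty ((T : Subgroup G) ≃* DihedralGroup n)) :
    ∃ (F : Type) (_ : Field F) (_ : Fintype F), Odd (Fintype.card F) ∧ 3 < Fintype.card F ∧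
        Nonempty (G ≃* Matrix.ProjectiveSpecialLinearGroup (Fin 2) F) := by
  have := isPerfect_of_simple hns
  have hcore := oddCore_eq_bot (G := G) heven
  have e : G ≃* G ⧸ Cfsg.oddCore G :=
    (QuotientGroup.quotientBot (G := G)).symm.trans (QuotientGroup.quotientMulEquivOfEq hcore.symm)
  rcases Q.dih G T n hn hT with ⟨F, hF, hF', h1, h2, ⟨f⟩⟩ | hf
  · exact ⟨F, hF, hF', h1, h2, ⟨e.trans f⟩⟩
  · obtain ⟨f⟩ := hf
    exact (hS.not_alt7 hnil (e.trans f)).elim

theorem two_ne_zero_of_odd {F : Type*} [Field F] [Fintype F] (h : Odd (Fintype.card F)) :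
    (2 : F) ≠ 0 := by
  intro h2
  obtain ⟨p, hp⟩ := CharP.exists F
  have hpp : p.Prime := CharP.char_is_prime F p
  obtain ⟨n, -, hn⟩ := FiniteField.card F p
  have hp2 : p ∣ 2 := by
    rw [← CharP.cast_eq_zero_iff F p]
    exact_mod_cast h2
  have hp2' : p = 2 := (Nat.prime_dvd_prime_iff_eq hpp Nat.prime_two).1 hp2
  rw [hn, hp2'] at h
  have : Even (2 ^ (n : ℕ)) := even_two.pow_of_ne_zero n.ne_zero
  exact (Nat.not_odd_iff_even.2 this) h

/-- ring automorphisms of a field with five elements -/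
theorem ringEquiv_eq_one_of_card {F : Type*} [Field F] [Fintype F] (h : Fintype.card F = 5)
    (σ : F ≃+* F) : σ = 1 := by
  obtain ⟨p, hp⟩ := CharP.exists F
  have hpp : p.Prime := CharP.char_is_prime F p
  have hpf : Fact p.Prime := ⟨hpp⟩
  obtain ⟨n, -, hn⟩ := FiniteField.card F p
  have hp5 : p = 5 := by
    have h1 : p ∣ 5 := by
      rw [← h, hn]
      exact dvd_pow_self p n.ne_zero
    exact (Nat.prime_dvd_prime_iff_eq hpp (by norm_num)).1 h1
  subst hp5
  have hbij : Function.Bijective (ZMod.castHom (dvd_refl 5) F) := by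
    rw [Fintype.bijective_iff_injective_and_card]
    refine ⟨RingHom.injective _, ?_⟩
    rw [ZMod.card, h]
  ext x
  obtain ⟨c, rfl⟩ := hbij.2 x
  obtain ⟨m, rfl⟩ := ZMod.natCast_zmod_surjective c
  rw [map_natCast, map_natCast]
  rfl

theorem card_eq_five {F : Type*} [Field F] [Fintype F] (hodd : Odd (Fintype.card F))
    (h : Nat.card (ProjectiveSpecialLinearGroup (Fin 2) F) = 60) : Fintype.card F = 5 := by
  have h1 := Cfsg.Agent.ClassicalGeometry.PSL2Basic.card_PSL2_gcd (F := F)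
  have h6 : Nat.gcd 2 (Fintype.card F - 1) = 2 := by
    apply Nat.gcd_eq_left
    obtain ⟨c, hc⟩ := hodd
    exact ⟨c, by omega⟩
  rw [h, h6] at h1
  set q := Fintype.card F
  have hq : q < 6 := by
    by_contra hge
    push Not at hge
    have h2 : 36 ≤ q ^ 2 := by nlinarith
    have h3 : 6 * 35 ≤ q * (q ^ 2 - 1) := Nat.mul_le_mul hge (by omega)
    omega
  interval_cases q <;> omega

theorem card_eq_six_or {F : Type*} [Field F] [Fintype F]
    (h : 72 ≤ Nat.card (ProjectiveSpecialLinearGroup (Fin 2) F)) : 4 ≤ Fintype.card F := by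
  have h1 := Cfsg.Agent.ClassicalGeometry.PSL2Basic.card_PSL2_gcd (F := F)
  by_contra hlt
  push Not at hlt
  have h3 : 0 < Nat.gcd 2 (Fintype.card F - 1) := Nat.gcd_pos_of_pos_left _ (by norm_num)
  have h4 : Nat.card (ProjectiveSpecialLinearGroup (Fin 2) F) ≤
      Fintype.card F * (Fintype.card F ^ 2 - 1) := by
    rw [← h1]
    exact Nat.le_mul_of_pos_right _ h3
  have h5 := h.trans h4
  set q := Fintype.card F
  interval_cases q <;> omega

theorem isStronglyEmbedded_of_conf [Finite G] {T : Subgroup G} (hc : Conf T)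
    (hN : normalizer (T : Set G) ≠ ⊤) : IsStronglyEmbedded (normalizer (T : Set G)) := by
  refine ⟨hN, ?_, ?_⟩
  · rw [even_iff_two_dvd]
    exact hc.even.trans (Subgroup.card_dvd_of_le le_normalizer)
  · intro g hg
    by_contra hodd
    rw [Nat.not_odd_iff_even, even_iff_two_dvd] at hodd
    obtain ⟨t, ⟨ht, s, hs, hst⟩, ht2⟩ := exists_prime_order_mem Nat.prime_two hodd
    have hst' : g * s * g⁻¹ = t := hst
    have hs2 : orderOf s = 2 := by
      rw [← ht2, ← hst]
      exact (orderOf_injective (MulAut.conj g).toMonoidHom (MulAut.conj g).injective s).symm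
    have htT := involution_mem hc ht ht2
    have hsT := involution_mem hc hs hs2
    have hs1 : s ≠ 1 := by
      rintro rfl
      rw [orderOf_one] at hs2
      omega
    exact hg (hc.ti s hsT hs1 g (by rw [hst']; exact htT))

theorem not_three_dvd (m : ℕ) : ¬ 3 ∣ (2 ^ (2 * m + 1)) ^ 2 * ((2 ^ (2 * m + 1)) ^ 2 + 1) *
    (2 ^ (2 * m + 1) - 1) := by
  obtain ⟨a, ha⟩ : ∃ a, 2 ^ (2 * m + 1) = 3 * a + 2 := by
    induction m with
    | zero => exact ⟨0, by norm_num⟩
    | succ m ih =>
      obtain ⟨a, ha⟩ := ih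
      refine ⟨4 * a + 2, ?_⟩
      have h1 : 2 ^ (2 * (m + 1) + 1) = 4 * 2 ^ (2 * m + 1) := by ring
      rw [h1, ha]
      ring
  rw [ha]
  intro h
  have h1 : (3 * a + 2) ^ 2 = 3 * (3 * (a * a) + 4 * a + 1) + 1 := by ring
  rw [h1] at h
  rcases (Nat.Prime.dvd_mul Nat.prime_three).1 h with h | h
  · rcases (Nat.Prime.dvd_mul Nat.prime_three).1 h with h | h <;> omega
  · omega

/-- **Groups with an invariant nilpotent partition and without solvable normal subgroups.** -/
theorem IsPart.main_nil (Q : Quoted.{u}) [Finite G] [Nontrivial G] (hS : IsPart S)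
    (hnil : ∀ X ∈ S, Group.IsNilpotent X)
    (hF : ∀ A : Subgroup G, A.Normal → Group.IsSolvable A → A = ⊥) :
    (∃ (F : Type) (_ : Field F) (_ : Fintype F), 4 ≤ Fintype.card F ∧
        Nonempty (G ≃* Matrix.ProjectiveSpecialLinearGroup (Fin 2) F)) ∨
    (∃ (F : Type) (_ : Field F) (_ : Fintype F), 5 ≤ Fintype.card F ∧ Odd (Fintype.card F) ∧
        Nonempty (G ≃* (GL (Fin 2) F ⧸ Subgroup.center (GL (Fin 2) F)))) ∨
    Cfsg.Lie.IsoSuzuki G := by
  classical
  obtain ⟨N, hN, hNs, hNns, hNC⟩ := hS.exists_simple hnil hF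
  have hNX : ∀ X ∈ S, ¬ N ≤ X := by
    intro X hX h
    apply hNns
    have := hnil X hX
    have := isNilpotent_of_le h
    infer_instance
  have hSN : IsPart (Part.restr S N) := hS.restr hNX
  have hnilN := nil_restr (S := S) (N := N) hnil
  have heven : 2 ∣ Nat.card N := by
    by_contra h
    apply hNns
    apply Q.odd N
    rw [← Nat.not_even_iff_odd, even_iff_two_dvd]
    exact h
  obtain ⟨T⟩ : Nonempty (Sylow 2 N) := inferInstance
  -- the odd conclusion
  have hodd : ∀ (F : Type) (_ : Field F) (_ : Fintype F), Odd (Fintype.card F) →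
      3 < Fintype.card F → Nonempty (N ≃* Matrix.ProjectiveSpecialLinearGroup (Fin 2) F) →
      ((∀ σ : F ≃+* F, σ = 1) ∨ Star S N) →
      (∃ (F : Type) (_ : Field F) (_ : Fintype F), 4 ≤ Fintype.card F ∧
        Nonempty (G ≃* Matrix.ProjectiveSpecialLinearGroup (Fin 2) F)) ∨
      (∃ (F : Type) (_ : Field F) (_ : Fintype F), 5 ≤ Fintype.card F ∧ Odd (Fintype.card F) ∧
        Nonempty (G ≃* (GL (Fin 2) F ⧸ Subgroup.center (GL (Fin 2) F)))) := by
    rintro F _ _ hFo hF3 ⟨e⟩ hst
    rcases odd_main hS hnil hNC (two_ne_zero_of_odd hFo) e hst with h | h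
    · exact Or.inl ⟨F, inferInstance, inferInstance, hF3, h⟩
    · refine Or.inr ⟨F, inferInstance, inferInstance, ?_, hFo, h⟩
      obtain ⟨c, hc⟩ := hFo
      omega
  rcases hSN.cases hnilN heven hNns (Q.strong N) T with hc | ⟨⟨n, hn, hT⟩, hstar⟩
  · -- Zassenhaus case
    by_cases hT8 : 8 ≤ Nat.card (T : Subgroup N)
    · have htop := ne_top_of_not_solvable hNns T
      have hntop := norm_ne_top hc htop
      have hl := two_le hc htop
      obtain ⟨hZ, hdeg⟩ := isZassenhausGroup hc htop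
      have h340 := Q.zass N (N ⧸ normalizer ((T : Subgroup N) : Set N)) hZ
      obtain ⟨g, hg⟩ : ∃ g, g ∉ normalizer ((T : Subgroup N) : Set N) := by
        by_contra h
        push Not at h
        exact hntop (eq_top_iff.2 fun g _ => h g)
      obtain ⟨x, hx, -⟩ := exists_inv hc hntop hg
      obtain ⟨z, hz, hz2⟩ := exists_involution hc
      have C : Cfg S N T x z := ⟨hS, hnil, hc, hntop, hl, hx, hz, hz2⟩
      rcases C.main with h | h
      · -- `N = G`
        have e : G ≃* N := Subgroup.topEquiv.symm.trans (MulEquiv.subgroupCongr h.symm)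
        rcases h340 with ⟨F, hFf, hFt, ⟨f⟩⟩ | hsz
        · refine Or.inl ⟨F, hFf, hFt, ?_, ⟨e.trans f⟩⟩
          apply card_eq_six_or
          rw [← Nat.card_congr f.toEquiv]
          have h1 := Subgroup.card_mul_index (normalizer ((T : Subgroup N) : Set N))
          rw [← h1, Subgroup.index, hdeg]
          have h2 : Nat.card (T : Subgroup N) ≤
              Nat.card (normalizer ((T : Subgroup N) : Set N)) :=
            Nat.le_of_dvd Nat.card_pos (Subgroup.card_dvd_of_le le_normalizer)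
          calc 72 = 8 * 9 := by norm_num
            _ ≤ _ := Nat.mul_le_mul (hT8.trans h2) (by omega)
        · right; right
          obtain ⟨-, m, -, hcard⟩ := hsz
          obtain ⟨F, hFf, hFt, k, hk, hFc, ⟨f⟩⟩ := Q.suz N _ hNns
            (isStronglyEmbedded_of_conf hc hntop) (by rw [hcard]; exact not_three_dvd m)
          exact ⟨F, hFf, hFt, k, hk, hFc, ⟨e.trans f⟩⟩
      · exact (not_card_le_three hc T.2 hT8 hntop hl h340 h).elim
    · obtain ⟨h60, hT2⟩ := conf_small hNns T hc (by omega)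
      obtain ⟨F, hFf, hFt, hFo, hF3, ⟨f⟩⟩ :=
        Q.dih_simple hNns heven hSN hnilN T (le_refl 2) hT2
      have h5 : Fintype.card F = 5 := by
        apply card_eq_five hFo
        rw [← Nat.card_congr f.toEquiv, h60]
      rcases hodd F hFf hFt hFo hF3 ⟨f⟩ (Or.inl (ringEquiv_eq_one_of_card h5)) with h | h
      · exact Or.inl h
      · exact Or.inr (Or.inl h)
  · -- dihedral case
    obtain ⟨F, hFf, hFt, hFo, hF3, ⟨f⟩⟩ := Q.dih_simple hNns heven hSN hnilN T hn hT
    have hst : Star S N := by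
      intro Y hY s t hsY htY hs1 ht1 hss htt hst
      have hYN : Y.subgroupOf N ∈ Part.restr S N := by
        refine ⟨?_, Y, hY, rfl⟩
        intro h
        apply hs1
        have h1 : s ∈ Y.subgroupOf N := mem_subgroupOf.2 hsY
        rwa [h, mem_bot] at h1
      exact hstar _ hYN s (mem_subgroupOf.2 hsY) t (mem_subgroupOf.2 htY)
        (orderOf_eq_prime (by rw [pow_two]; exact hss) hs1)
        (orderOf_eq_prime (by rw [pow_two]; exact htt) ht1) hst
    rcases hodd F hFf hFt hFo hF3 ⟨f⟩ (Or.inr hst) with h | h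
    · exact Or.inl h
    · exact Or.inr (Or.inl h)

/-- **Groups with a nontrivial partition.** -/
theorem classification (Q : Quoted.{u}) {G : Type u} [Group G] [Finite G] (S : Set (Subgroup G))
    (hS2 : ∃ H ∈ S, ∃ K ∈ S, H ≠ K)
    (hS1 : ∀ H ∈ S, H ≠ ⊥) (hpart : ∀ g : G, g ≠ 1 → ∃! H : Subgroup G, H ∈ S ∧ g ∈ H) :
    Nonempty (G ≃* Equiv.Perm (Fin 4)) ∨
    (∃ p : ℕ, p.Prime ∧ Subgroup.closure {g : G | g ^ p ≠ 1} ≠ ⊤) ∨
    (∃ H : Subgroup G, Cfsg.IsFrobeniusComplement H) ∨
    (∃ (F : Type) (_ : Field F) (_ : Fintype F), 4 ≤ Fintype.card F ∧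
        Nonempty (G ≃* Matrix.ProjectiveSpecialLinearGroup (Fin 2) F)) ∨
    (∃ (F : Type) (_ : Field F) (_ : Fintype F), 5 ≤ Fintype.card F ∧ Odd (Fintype.card F) ∧
        Nonempty (G ≃* (GL (Fin 2) F ⧸ Subgroup.center (GL (Fin 2) F)))) ∨
    Cfsg.Lie.IsoSuzuki G := by
  classical
  obtain ⟨S', hS'⟩ := exists_isPart hS2 hS1 hpart
  have hnt : Nontrivial G := by
    obtain ⟨H, hH, -⟩ := hS2
    obtain ⟨h, -, hh1⟩ := (H.bot_or_exists_ne_one).resolve_left (hS1 H hH)
    exact ⟨h, 1, hh1⟩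
  by_cases hsol : ∃ A : Subgroup G, A.Normal ∧ Group.IsSolvable A ∧ A ≠ ⊥
  · obtain ⟨A, hA, hAs, hA1⟩ := hsol
    rcases hS'.concl_of_solvable A hA1 with h | h | h
    · exact Or.inl h
    · exact Or.inr (Or.inl h)
    · exact Or.inr (Or.inr (Or.inl h))
  · push Not at hsol
    by_cases hself : ∃ X ∈ S', normalizer (X : Set G) ≤ X
    · obtain ⟨X, hX, h⟩ := hself
      exact Or.inr (Or.inr (Or.inl ⟨X, hS'.isFrobeniusComplement hX h⟩))
    · push Not at hself
      have hnil : ∀ X ∈ S', Group.IsNilpotent X := fun X hX => hS'.isNilpotent hX (hself X hX)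
      exact Or.inr (Or.inr (Or.inr (hS'.main_nil Q hnil (fun A hA hAs => hsol A hA hAs))))

end Cfsg.Agent.H550.Part
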